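import Cfsg.Agent.Pyr.Defs

/-! Groups with a prime power number of involutions: an involution acting on a homocyclic group of rank three. -/

set_option autoImplicit false

namespace CL.Pyr

universe u

namespace Ab1

theorem cop (e : ℕ) (t : ℤ) : IsCoprime ((2 : ℤ) ^ e) (2 * t + 1) :=
  IsCoprime.pow_left ⟨-t, 1, by ring⟩

theorem arith {e : ℕ} {δ j : ℤ} (h1 : Odd δ) (h2 : (2 : ℤ) ^ (e + 1) ∣ (δ + 1) * (δ - 1))
    (h3 : (2 : ℤ) ^ (e + 1) ∣ j * (δ - 1)) (h4 : ∀ k : ℤ, ¬ (2 : ℤ) ^ (e + 1) ∣ j + k * (δ + 1)) :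
    (e ≠ 0 ∧ (2 : ℤ) ^ (e + 1) ∣ δ - 1) ∨ ((2 : ℤ) ^ (e + 1) ∣ δ + 1 ∧ (2 : ℤ) ^ (e + 1) ∣ j - 2 ^ e) := by
  by_cases he : e = 0
  · subst he
    have := h4 0
    right
    obtain ⟨t, rfl⟩ := h1
    norm_num at this ⊢
    omega
  obtain ⟨s, rfl⟩ := h1
  rcases Int.even_or_odd' s with ⟨t, rfl | rfl⟩
  · rcases Int.even_or_odd' j with ⟨i, rfl | rfl⟩
    · obtain ⟨r, s, h⟩ := cop e t
      exact absurd ⟨i * r, by linear_combination (-2 * i) * h⟩ (h4 (-i * s))
    · exact .inl ⟨he, (cop _ i).dvd_of_dvd_mul_left h3⟩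
  · right
    have key : ∀ z : ℤ, (2 : ℤ) ^ (e + 1) ∣ z * (2 * (2 * t + 1) + 1 - 1) → (2 : ℤ) ^ e ∣ z := fun z ⟨r, hr⟩ =>
      (cop e t).dvd_of_dvd_mul_right ⟨r, by linarith [pow_succ (2 : ℤ) e ▸ hr]⟩
    obtain ⟨i, rfl⟩ := key _ h3
    obtain ⟨d, hd⟩ := key _ h2
    rw [hd] at h4 ⊢
    rcases Int.even_or_odd' i with ⟨i, rfl | rfl⟩
    · exact absurd ⟨i, by ring⟩ (h4 0)
    rcases Int.even_or_odd' d with ⟨d, rfl | rfl⟩
    · exact ⟨⟨d, by ring⟩, i, by ring⟩
    · exact absurd ⟨i + d + 1, by ring⟩ (h4 1)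

variable {M : Type u} [AddCommGroup M] {e : ℕ} {v u w : M}

theorem ind_int (hv : v + v = 0) (hu : u + u = 0) (hw : w + w = 0)
    (h : ∀ a b c : ℕ, a • v + b • u + c • w = 0 → Even a ∧ Even b ∧ Even c) (a b c : ℤ)
    (e : a • v + b • u + c • w = 0) : Even a ∧ Even b ∧ Even c := by
  have k : ∀ (x : M) (a : ℤ), x + x = 0 → a • x = a.natAbs • x := fun x a hx => by
    rcases Int.natAbs_eq a with e | e
    · rw [← natCast_zsmul, ← e]
    · rw [← natCast_zsmul, ← neg_eq_iff_eq_neg.2 e, neg_smul, ← smul_neg, neg_eq_of_add_eq_zero_left hx]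
  rw [k v a hv, k u b hu, k w c hw] at e
  simpa only [Int.natAbs_even] using h _ _ _ e

theorem span [Finite M] (h8 : Nat.card {x : M // x + x = 0} = 8) (hv : v + v = 0) (hu : u + u = 0) (hw : w + w = 0)
    (h : ∀ a b c : ℤ, a • v + b • u + c • w = 0 → Even a ∧ Even b ∧ Even c) (y : M) (hy : y + y = 0) :
    ∃ a b c : ℤ, y = a • v + b • u + c • w := by
  obtain ⟨t, ht⟩ := (Function.Injective.bijective_of_nat_card_le
    (f := fun t : Fin 2 × Fin 2 × Fin 2 => (⟨(t.1 : ℤ) • v + (t.2.1 : ℤ) • u + (t.2.2 : ℤ) • w, by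
      linear_combination (norm := module) (t.1 : ℤ) • hv + (t.2.1 : ℤ) • hu + (t.2.2 : ℤ) • hw⟩ : {x : M // x + x = 0}))
    (fun ⟨a, b, c⟩ ⟨a', b', c'⟩ e => by
      have e' := congrArg Subtype.val e
      obtain ⟨h1, h2, h3⟩ := h (a - a') (b - b') (c - c') (by linear_combination (norm := module) e')
      simp only [Int.even_iff] at h1 h2 h3
      simp only [Prod.ext_iff, Fin.ext_iff]
      omega) (by simp [h8])).2 ⟨y, hy⟩
  exact ⟨_, _, _, (congrArg Subtype.val ht).symm⟩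

theorem half [Finite M] (hN : ∀ x : M, (2 : ℤ) ^ (e + 1) • x = 0) (hs : ∀ y : M, y + y = 0 → ∃ x : M, (2 : ℤ) ^ e • x = y)
    (y : M) (hy : (2 : ℤ) ^ e • y = 0) : ∃ z, y = (2 : ℤ) • z := by
  let D : M →+ M := zsmulAddGroupHom 2
  let P : M →+ M := zsmulAddGroupHom (2 ^ e)
  have e1 : P.range = D.ker := by
    ext y
    exact ⟨fun ⟨x, e⟩ => e ▸ (by linear_combination (norm := module) hN x : (2 : ℤ) • (2 : ℤ) ^ _ • x = 0),
      fun h => hs y (by rw [← two_zsmul]; exact h)⟩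
  have e2 : D.range = P.ker := AddSubgroup.eq_of_le_of_card_ge
    (by rintro _ ⟨x, rfl⟩; exact (by linear_combination (norm := module) hN x : (2 : ℤ) ^ e • (2 : ℤ) • x = 0)) (by
      have a := D.ker.card_mul_index
      have b := P.ker.card_mul_index
      rw [AddSubgroup.index_ker] at a b
      rw [e1, ← a, mul_comm] at b
      exact (Nat.eq_of_mul_eq_mul_left Nat.card_pos b).le)
  obtain ⟨z, hz⟩ := e2.ge (show y ∈ P.ker from hy)
  exact ⟨z, hz.symm⟩

end Ab1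

open Ab1

theorem ab1 : Ab1.{u} := by
  intro M _ _ e τ ρ v u w m hN h8 hv hu hw hi hs ττ ρρ τρ τv τu τw ρv ρu ρw τm hm
  have hz : ∀ (k : ℕ) (x : M), 2 ^ k • x = (2 : ℤ) ^ k • x := fun k x => by rw [← natCast_zsmul]; push_cast; rfl
  simp only [hz] at hN hs ⊢
  have hi := ind_int hv hu hw hi
  have ρτ : ∀ x, ρ (τ x) = τ (ρ (ρ x)) := fun x => by rw [← τρ, ττ]
  obtain ⟨c0, hc0⟩ := hs w hw
  obtain ⟨x0, hx0⟩ := hs v hv
  obtain ⟨c, ρc, πc⟩ : ∃ c, ρ c = c ∧ (2 : ℤ) ^ e • c = w := ⟨c0 + ρ c0 + ρ (ρ c0), by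
    simp only [map_add, ρρ]; abel, by
    simp only [smul_add, ← map_zsmul, hc0, ρw, hw, zero_add]⟩
  obtain ⟨x, ρx, πx⟩ : ∃ x, x + ρ x + ρ (ρ x) = 0 ∧ (2 : ℤ) ^ e • x = u := ⟨ρ (ρ x0) - x0, by
    simp only [map_sub, ρρ]; abel, by
    simp only [smul_sub, ← map_zsmul, hx0, ρv, ρu, add_sub_cancel_right]⟩
  have ρx' : τ x + ρ (τ x) + ρ (ρ (τ x)) = 0 := by
    have := congrArg τ ρx
    simp only [map_add, map_zero] at this
    rw [ρτ, ρτ, ρρ]
    linear_combination (norm := module) this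
  have πx' : (2 : ℤ) ^ e • τ x = u + v := by rw [← map_zsmul, πx, τu]
  have gen : ∀ y, ∃ a b k : ℤ, y = a • x + b • τ x + k • c := by
    have g1 : ∀ y, ∃ (a b k : ℤ) (z : M), y = a • x + b • τ x + k • c + (2 : ℤ) • z := fun y => by
      obtain ⟨a, b, k, h⟩ := span h8 hv hu hw hi ((2 : ℤ) ^ e • y) (by linear_combination (norm := module) hN y)
      obtain ⟨z, h'⟩ := half hN hs (y - ((b - a) • x + a • τ x + k • c))
        (by linear_combination (norm := module) h - (b - a) • πx - a • πx' - k • πc)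
      exact ⟨b - a, a, k, z, by linear_combination (norm := module) h'⟩
    have g2 : ∀ (j : ℕ) y, ∃ (a b k : ℤ) (z : M), y = a • x + b • τ x + k • c + (2 : ℤ) ^ j • z := fun j => by
      induction j with
      | zero => exact fun y => ⟨0, 0, 0, y, by module⟩
      | succ j ih =>
        intro y
        obtain ⟨a, b, k, z, h⟩ := ih y
        obtain ⟨a', b', k', z', h'⟩ := g1 z
        exact ⟨a + 2 ^ j * a', b + 2 ^ j * b', k + 2 ^ j * k', z', by rw [h, h']; module⟩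
    intro y
    obtain ⟨a, b, k, z, h⟩ := g2 (e + 1) y
    exact ⟨a, b, k, by rw [h, hN, add_zero]⟩
  have ind : ∀ a b k : ℤ, a • x + b • τ x + k • c = 0 →
      (2 : ℤ) ^ (e + 1) ∣ a ∧ (2 : ℤ) ^ (e + 1) ∣ b ∧ (2 : ℤ) ^ (e + 1) ∣ k := fun a b k h => by
    have : ∀ j, j ≤ e + 1 → (2 : ℤ) ^ j ∣ a ∧ (2 : ℤ) ^ j ∣ b ∧ (2 : ℤ) ^ j ∣ k := fun j => by
      induction j with
      | zero => simp
      | succ j ih =>
        intro hj
        obtain ⟨⟨a, rfl⟩, ⟨b, rfl⟩, ⟨k, rfl⟩⟩ := ih (by omega)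
        obtain ⟨i, rfl⟩ : ∃ i, e = j + i := ⟨e - j, by omega⟩
        obtain ⟨⟨b', h1⟩, ⟨a', h2⟩, ⟨k', h3⟩⟩ := hi b (a + b) k
          (by linear_combination (norm := module) (2 : ℤ) ^ i • h - a • πx - b • πx' - k • πc)
        exact ⟨⟨a' - b', by rw [show a = 2 * (a' - b') by omega]; ring⟩, ⟨b', by rw [h1]; ring⟩, k', by rw [h3]; ring⟩
    exact this _ le_rfl
  have kill : ∀ (k : ℤ) (y : M), (2 : ℤ) ^ (e + 1) ∣ k → k • y = 0 := by
    rintro _ y ⟨k, rfl⟩
    rw [mul_smul, hN]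
  obtain ⟨δ, τc⟩ : ∃ δ : ℤ, τ c = δ • c := by
    obtain ⟨a, b, δ, h⟩ := gen (τ c)
    have f1 : ρ (a • x + b • τ x) = a • x + b • τ x := by
      rw [← sub_eq_iff_eq_add.2 h, map_sub, map_zsmul, ρτ, ρc, ρc]
    have f2 := (congrArg ρ f1).trans f1
    simp only [map_add, map_zsmul] at f1 f2
    obtain ⟨r, s, f3⟩ := cop (e + 1) 1
    refine ⟨δ, ?_⟩
    have f4 : (3 : ℤ) • (a • x + b • τ x) = 0 := by
      linear_combination (norm := module) a • ρx + b • ρx' - f1 - f2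
    have f5 : a • x + b • τ x = 0 := by
      rw [← one_smul ℤ (a • x + b • τ x), ← f3]
      linear_combination (norm := module) r • hN (a • x + b • τ x) + s • f4
    rw [h, f5, zero_add]
  have δ1 : Odd δ := by
    have := (hi 0 0 (δ - 1) (by
      have := congrArg ((2 : ℤ) ^ e • ·) τc
      simp only [← map_zsmul, πc, τw] at this
      linear_combination (norm := module) -this - δ • πc)).2.2
    simpa [Int.even_sub] using this
  have δ2 := (ind 0 0 ((δ + 1) * (δ - 1)) (by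
    have := congrArg τ τc
    rw [ττ, map_zsmul, τc] at this
    linear_combination (norm := module) -this)).2.2
  obtain ⟨a, b, j, hj⟩ := gen m
  obtain ⟨m1, -, m2⟩ := ind (b - a) (a - b) (j * (δ - 1)) (by
    have := congrArg τ hj
    simp only [map_add, map_zsmul, ττ, τc, τm] at this
    linear_combination (norm := module) hj - this)
  have m3 := kill _ (τ x) m1
  rcases arith δ1 δ2 m2 fun k hk => hm ((-a) • x + k • c) (by
    simp only [map_add, map_zsmul, τc]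
    linear_combination (norm := module) hj + m3 + kill _ c hk) with ⟨h1, h2⟩ | ⟨h1, h2⟩
  · refine .inl ⟨h1, τ x - x, by linear_combination (norm := module) πx' - πx, fun y => ?_⟩
    obtain ⟨a, b, k, rfl⟩ := gen y
    refine ⟨a - b, ?_⟩
    simp only [map_add, map_zsmul, τc, ττ]
    linear_combination (norm := module) k • kill _ c h2
  · refine .inr ⟨x + τ x, by linear_combination (norm := module) πx' + πx + hu, fun y => ?_, a • x, ?_⟩
    · obtain ⟨a, b, k, rfl⟩ := gen y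
      refine ⟨a + b, ?_⟩
      simp only [map_add, map_zsmul, τc, ττ]
      linear_combination (norm := module) k • kill _ c h1
    · rw [map_zsmul]
      linear_combination (norm := module) hj + m3 + kill _ c h2 + πc

end CL.Pyr
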