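import Cfsg.Agent.Pyr.Defs
import Cfsg.Agent.S4179
import Cfsg.Agent.S0144

/-! Project PYR (S3930): assembly of the case of a normal elementary abelian subgroup. -/

set_option autoImplicit false

namespace CL.Pyr

open Subgroup

universe u

theorem asm_cyc {X : Type*} [Group X] (h : IsCyclic X) : Group.IsSolvable X :=
  Group.isSolvable_of_comm fun a b => (IsCyclic.commGroup (α := X)).mul_comm a b

theorem asm_lin {A : Type*} [AddCommGroup A] [Module (ZMod 2) A] [Finite A] {n : ℕ}
    (hn : Module.finrank (ZMod 2) A = n) (hp : (2 ^ n - 1).Prime) (R : Subgroup (A ≃ₗ[ZMod 2] A))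
    (tr : ∀ v w : A, v ≠ 0 → w ≠ 0 → ∃ h ∈ R, h v = w) : Group.IsSolvable R ∨ (R = ⊤ ∧ Odd n ∧ 3 ≤ n) := by
  have pn : n.Prime := (Nat.prime_of_pow_sub_one_prime (by rintro rfl; exact absurd hp (by decide)) hp).2
  haveI : Finite (A ≃ₗ[ZMod 2] A) := Finite.of_injective _ DFunLike.coe_injective
  rcases (Cfsg.Agent.S4179.result n hn hp R).1 tr with ⟨h, -⟩ | ⟨h, C, h1, h2, h3, h4⟩ | rfl
  · exact .inl (asm_cyc h)
  · haveI := asm_cyc ((subgroupOfEquivOfLe h1).isCyclic.2 h3)
    have h5 := card_eq_card_quotient_mul_card_subgroup (C.subgroupOf R)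
    rw [h, Nat.card_congr (subgroupOfEquivOfLe h1).toEquiv, h4] at h5
    haveI := Fact.mk pn
    haveI := asm_cyc (isCyclic_of_prime_card (Nat.eq_of_mul_eq_mul_right hp.pos h5).symm)
    exact .inl (Group.isSolvable_of_ker_le_range (C.subgroupOf R).subtype
      (QuotientGroup.mk' (C.subgroupOf R)) (by simp))
  · rcases pn.eq_two_or_odd' with rfl | h
    · refine .inl (Cfsg.Agent.S0144.result 2 3 1 1 Nat.prime_two Nat.prime_three ?_)
      rw [card_top, ← Nat.card_congr ((Matrix.GeneralLinearGroup.toLin' (Module.finBasisOfFinrankEq _ _ hn)).trans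
        (LinearMap.GeneralLinearGroup.generalLinearEquiv _ _)).toEquiv, Matrix.card_GL_field]
      simp
    · exact .inr ⟨rfl, h, by have := pn.two_le; obtain ⟨k, rfl⟩ := h; omega⟩

theorem asmS : AsmS.{u} := fun c1 c2 r3 n3 H _ _ V n om on no hc hp => by
  have n2 : 2 ≤ n :=
    (Nat.prime_of_pow_sub_one_prime (by rintro rfl; exact absurd hp (by decide)) hp).2.two_le
  haveI : V.Normal := ⟨fun x hx g => (om _).2 (by rw [conj_mul, (om x).1 hx, mul_one, mul_inv_cancel])⟩
  have key : ∀ k, ∀ L : Subgroup H, Nat.card L = k → L.Normal → L ≤ centralizer (V : Set H) →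
      Group.IsSolvable L := by
    intro k
    induction k using Nat.strong_induction_on with
    | _ k ih =>
      intro L hk hL hC
      by_cases e : ⁅L, L⁆ = L
      · obtain rfl : L = ⊥ := by_contra fun h =>
          let ⟨R, hR⟩ := c1 H V L n om on hc hp hL hC e h
          c2 H V L R n om no hc n2 hL hC e hR
        infer_instance
      · have le : ⁅L, L⁆ ≤ L := commutator_le_left _ _
        haveI := ih _ (hk ▸ lt_of_le_of_ne (card_le_of_le le) fun h => e (eq_of_le_of_card_ge le h.ge)) ⁅L, L⁆ rfl inferInstance (le.trans hC)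
        refine Group.isSolvable_of_ker_le_range (inclusion le) Abelianization.of ?_
        rw [Abelianization.ker_of, inclusion_range, _root_.commutator_def, commutator_le]
        exact fun a _ b _ => commutator_mem_commutator a.2 b.2
  haveI := key _ (centralizer (V : Set H)) rfl inferInstance le_rfl
  have iv : ∀ x : V, x⁻¹ = x := fun x => inv_eq_of_mul_eq_one_right (Subtype.ext ((om _).1 x.2))
  letI : CommGroup V := { (inferInstance : Group V) with
    mul_comm := fun a b => by rw [← iv (a * b), mul_inv_rev, iv, iv] }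
  letI : Module (ZMod 2) (Additive V) := AddCommGroup.zmodModule fun x => by
    rw [two_nsmul]; exact Subtype.ext ((om _).1 x.toMul.2)
  have hrk : Module.finrank (ZMod 2) (Additive V) = n := by
    have := Module.natCard_eq_pow_finrank (K := ZMod 2) (V := Additive V)
    rw [Nat.card_zmod, show Nat.card (Additive V) = 2 ^ n from hc] at this
    exact (Nat.pow_right_injective le_rfl this).symm
  let j : MulAut V →* (Additive V ≃ₗ[ZMod 2] Additive V) :=
    { toFun := fun φ => (MulEquiv.toAdditive φ).toLinearEquiv fun c x => ZMod.map_smul _ c x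
      map_one' := rfl
      map_mul' := fun _ _ => rfl }
  let ρ : H →* (Additive V ≃ₗ[ZMod 2] Additive V) := j.comp MulAut.conjNormal
  have hρ : ∀ h (v : V), ((ρ h (Additive.ofMul v)).toMul : H) = h * v * h⁻¹ := fun _ _ => rfl
  rcases asm_lin hrk hp ρ.range (fun v w hv hw => by
    obtain ⟨g, e⟩ := on v.toMul w.toMul (fun e => hv (Subtype.ext e)) ((om _).1 v.toMul.2)
      (fun e => hw (Subtype.ext e)) ((om _).1 w.toMul.2)
    exact ⟨ρ g, ⟨g, rfl⟩, Subtype.ext e⟩) with h | ⟨h, h1, h3⟩
  · refine Group.isSolvable_of_ker_le_range (centralizer (V : Set H)).subtype ρ.rangeRestrict fun g hg => ?_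
    rw [range_subtype]
    intro v hv
    have := hρ g ⟨v, hv⟩
    rw [show ρ g = 1 from congrArg Subtype.val hg] at this
    exact eq_mul_inv_iff_mul_eq.1 this
  · obtain ⟨H₀, V₀, a, b, c⟩ := r3 H V n om (fun φ => by
      obtain ⟨g, e⟩ : j φ ∈ ρ.range := h ▸ mem_top _
      exact ⟨g, fun v => by rw [← hρ, e]; rfl⟩) hc h1 h3
    exact (n3 H₀ V₀ a b c).elim

end CL.Pyr
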