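import Cfsg.Agent.Pyr.Defs
import Cfsg.Agent.S3776
import Cfsg.Agent.S0205
import Cfsg.Agent.Suz.HigmanMain
import Cfsg.Agent.Grp.SylowIn

/-! Project PYR (S3930): the Sylow 2-subgroup of a perfect normal subgroup centralising all involutions. -/

set_option autoImplicit false

namespace CL.Pyr

open Subgroup CL.Higman CL.Grp
open scoped commutatorElement

universe u

namespace Cl1

variable {H : Type u} [Group H] {V R T : Subgroup H}

/-- Chevalley–Warning for the squaring map. -/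
theorem cube [Finite H] (hV : Om V) (le : V ≤ R) (hz : ∀ v ∈ V, ∀ x ∈ R, x * v = v * x) (hsq : ∀ x ∈ R, x * x ∈ V) :
    Nat.card R ≤ Nat.card V ^ 3 := by
  obtain ⟨F, _, _, ω, hω, hk', hs'⟩ := exists_lin (X := V) (Y := ⊥) bot_le fun a ha => (hV a).1 ha
  obtain ⟨W, _, _, π, hπ, hk, hs⟩ := exists_lin le hsq
  have hcard := hπ.card_eq hs
  have hker : hπ.ker = V := by
    ext a
    exact ⟨fun ha => (hk a ha.1).1 ha.2, fun ha => ⟨le ha, (hk a (le ha)).2 ha⟩⟩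
  have cF := hω.card_eq hs'
  rw [show hω.ker = ⊥ from eq_bot_iff.2 fun a ha => (hk' a ha.1).1 ha.2, card_bot, mul_one] at cF
  rw [hker] at hcard
  have hW : Finite W := Nat.finite_of_card_ne_zero fun k => Nat.card_pos.ne' (by rw [hcard, k, zero_mul])
  have hF : Finite F := Nat.finite_of_card_ne_zero (cF ▸ Nat.card_pos.ne')
  choose s hs hs' using hs
  have cj : ∀ {v}, v ∈ V → ∀ {x}, x ∈ R → x * v * x⁻¹ = v := fun hv _ hx => by rw [hz _ hv _ hx, mul_inv_cancel_right]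
  have hc : ∀ x ∈ R, ∀ y ∈ R, ⁅x, y⁆ ∈ V := fun x hx y hy => commutator_mem_of_sq hsq hx hy
  have w : ∀ x ∈ R, ∀ y ∈ R, π x = π y → ∃ w ∈ V, y = x * w := fun x hx y hy hxy =>
    ⟨x⁻¹ * y, (hk _ (R.mul_mem (R.inv_mem hx) hy)).1 (by
      rw [hπ _ (R.inv_mem hx) _ hy, hπ.inv hx, hxy, neg_add_cancel]), by group⟩
  have hQ : ∀ x ∈ R, s (π x) * s (π x) = x * x := fun x hx => by
    obtain ⟨w, hw, he⟩ := w x hx _ (hs (π x)) (hs' _).symm
    rw [he, mul_assoc, ← mul_assoc w, ← hz _ hw _ hx, mul_assoc, (hV w).1 hw, mul_one]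
  have hpol : ∀ x ∈ R, ∀ y ∈ R, ω (x * y * (x * y)) = ω (x * x) + ω (y * y) + ω ⁅y, x⁆ := by
    intro x hx y hy
    have e : x * y * (x * y) = x * ⁅y, x⁆ * x⁻¹ * (x * x) * (y * y) := by
      rw [commutatorElement_def]; group
    rw [e, cj (hc y hy x hx) hx, hω _ (V.mul_mem (hc y hy x hx) (hsq x hx)) _ (hsq y hy),
      hω _ (hc y hy x hx) _ (hsq x hx)]
    abel
  have hsum : ∀ u v, s (u + v) * s (u + v) = s u * s v * (s u * s v) := fun u v => by
    rw [← hQ _ (R.mul_mem (hs u) (hs v)), hπ _ (hs u) _ (hs v), hs', hs']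
  have hpolar : ∀ u v, QuadraticMap.polar (fun v => ω (s v * s v)) u v = ω ⁅s v, s u⁆ := fun u v => by
    rw [QuadraticMap.polar, hsum, hpol _ (hs u) _ (hs v)]; abel
  have h0 : s 0 ∈ V := (hk _ (hs 0)).1 (hs' 0)
  have z2 : ∀ a : ZMod 2, a = 0 ∨ a = 1 := by decide
  let Q : QuadraticMap (ZMod 2) W F := QuadraticMap.ofPolar (fun v => ω (s v * s v))
    (fun a v => by
      rcases z2 a with rfl | rfl
      · simp [(hV _).1 h0, hω.one]
      · simp)
    (fun u u' v => by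
      obtain ⟨w, hw, he⟩ := w _ (R.mul_mem (hs u) (hs u')) _ (hs (u + u')) (by
        rw [hπ _ (hs u) _ (hs u'), hs', hs', hs'])
      rw [hpolar, hpolar, hpolar, he, commutator_mul_right', commutator_mul_right',
        commutatorElement_eq_one_iff_mul_comm.2 (hz _ hw _ (hs v)), cj (hc _ (hs v) _ (hs u')) (hs u),
        mul_one, mul_inv_cancel, mul_one, hω _ (hc _ (hs v) _ (hs u)) _ (hc _ (hs v) _ (hs u'))])
    (fun a u v => by
      rcases z2 a with rfl | rfl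
      · rw [zero_smul, zero_smul, hpolar, commutatorElement_eq_one_iff_mul_comm.2 (hz _ h0 _ (hs v)), hω.one]
      · simp)
  have h1 := card_le_sq_of_anisotropic Q fun v hv => by
    rw [← hs' v]
    exact (hk _ (hs v)).2 ((hV _).2 ((hk' _ (hsq _ (hs v))).1 hv))
  rw [hcard, pow_succ, cF]
  exact Nat.mul_le_mul_right _ h1

/-- Counting the fibres of the squaring map. -/
theorem count [Finite H] (hV : Om V) (le : V ≤ T) (hsq : ∀ x ∈ T, x * x ∈ V)
    (tr : ∀ x ∈ V, ∀ y ∈ V, x ≠ 1 → y ≠ 1 → ∃ g ∈ normalizer (T : Set H), g * x * g⁻¹ = y) {z : H} (hz : z ∈ V)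
    (z1 : z ≠ 1) : Nat.card T = Nat.card V + (Nat.card V - 1) * Nat.card {x : T // (x : H) * x = z} := by
  classical
  let _ := Fintype.ofFinite V
  let f : T → V := fun x => ⟨x * x, hsq x x.2⟩
  rw [← Nat.card_congr (Equiv.sigmaFiberEquiv f), Nat.card_sigma, ← Finset.add_sum_erase _ _ (Finset.mem_univ 1),
    Finset.sum_const_nat (m := Nat.card {x : T // (x : H) * x = z}), Finset.card_erase_of_mem (Finset.mem_univ _),
    Finset.card_univ, ← Nat.card_eq_fintype_card]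
  · congr 1
    exact Nat.card_congr ⟨fun x => ⟨x.1, (hV _).2 (congrArg Subtype.val x.2)⟩,
      fun v => ⟨⟨v, le v.2⟩, Subtype.ext ((hV _).1 v.2)⟩, fun _ => rfl, fun _ => rfl⟩
  · intro y hy
    obtain ⟨g, hg, e⟩ := tr y y.2 z hz (fun k => Finset.ne_of_mem_erase hy (Subtype.ext k)) z1
    refine Nat.card_congr ((T.normalizerMonoidHom ⟨g, hg⟩).toEquiv.subtypeEquiv fun x => ?_)
    change _ ↔ g * x * g⁻¹ * (g * x * g⁻¹) = z
    rw [conj_mul, ← e, mul_left_inj, mul_right_inj, Subtype.ext_iff]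

/-- A fibre that is not one coset. -/
theorem big [Finite H] (hV : Om V) (le : V ≤ T) (hz : ∀ v ∈ V, ∀ x ∈ T, x * v = v * x) {x y : H} (hx : x ∈ T)
    (hy : y ∈ T) (e : x * x = y * y) (k : x⁻¹ * y ∉ V) : Nat.card V + 1 ≤ Nat.card {a : T // (a : H) * a = x * x} := by
  rw [← Finite.card_option]
  refine Nat.card_le_card_of_injective (fun o => o.elim ⟨⟨y, hy⟩, e.symm⟩ fun v => ⟨⟨x * v, mul_mem hx (le v.2)⟩, ?_⟩) ?_
  · change x * v * (x * v) = x * x
    rw [mul_assoc, ← mul_assoc (v : H), ← hz _ v.2 _ hx, mul_assoc, (hV _).1 v.2, mul_one]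
  · rintro (_ | v) (_ | w) h
    · rfl
    · have : y = x * w := congrArg (fun a => (a.1 : H)) h
      exact absurd (by rw [this, inv_mul_cancel_left]; exact w.2) k
    · have : x * v = y := congrArg (fun a => (a.1 : H)) h
      exact absurd (by rw [← this, inv_mul_cancel_left]; exact v.2) k
    · have : x * v = x * w := congrArg (fun a => (a.1 : H)) h
      rw [Subtype.ext (mul_left_cancel this)]

theorem arith {n m c : ℕ} (hn : 2 ≤ 2 ^ n - 1) (h : 2 ^ m = 2 ^ n + (2 ^ n - 1) * c) (hc : 2 ^ n + 1 ≤ c)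
    (le : 2 ^ m ≤ (2 ^ n) ^ 3) : 2 ^ m = (2 ^ n) ^ 3 := by
  have h1 : (2 ^ m - 1) % (2 ^ n - 1) = 0 := by
    rw [show 2 ^ m - 1 = (2 ^ n - 1) * (c + 1) by rw [mul_add]; omega, Nat.mul_mod_right]
  rw [Nat.pow_sub_one_mod_pow_sub_one] at h1
  have h2 : m % n = 0 := by
    by_contra k
    have := Nat.one_lt_two_pow k
    omega
  obtain ⟨k, rfl⟩ := Nat.dvd_of_mod_eq_zero h2
  rw [pow_mul] at h le ⊢
  generalize 2 ^ n = q at *
  have h3 : k ≤ 3 := (Nat.pow_le_pow_iff_right (by omega)).1 le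
  have h4 : q ^ 2 < q ^ k := by
    obtain ⟨r, rfl⟩ : ∃ r, q = r + 1 := ⟨q - 1, by omega⟩
    rw [h, Nat.add_sub_cancel] at *
    nlinarith
  rw [show k = 3 by have := (Nat.pow_lt_pow_iff_right (by omega)).1 h4; omega]

theorem arith2 {q c : ℕ} (hq : 2 ≤ q - 1) (h : q ^ 3 = q + (q - 1) * c) : c = q * (q + 1) := by
  obtain ⟨r, rfl⟩ : ∃ r, q = r + 1 := ⟨q - 1, by omega⟩
  rw [Nat.add_sub_cancel] at *
  refine Nat.eq_of_mul_eq_mul_left (show 0 < r by omega) ?_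
  nlinarith

theorem comm_top {L : Subgroup H} (pf : ⁅L, L⁆ = L) : commutator L = ⊤ :=
  map_injective L.subtype_injective (by rw [map_subtype_commutator, pf, ← MonoidHom.range_eq_map, range_subtype])

end Cl1

open Cl1 in
theorem cl1 (t : TS.{u}) : Cl1.{u} := by
  intro H _ _ V L n hV h1 cV hp hL hc pf ne
  have : Fact (Nat.Prime 2) := ⟨Nat.prime_two⟩
  have q2 := hp.two_le
  have ct := comm_top pf
  have cz : ∀ v ∈ V, ∀ x ∈ L, x * v = v * x := fun v hv x hx => (hc hx v hv).symm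
  have ev : 2 ∣ Nat.card L := by
    by_contra k
    have := Cfsg.Agent.S0205.result (G := L) (Nat.odd_iff.2 (by omega))
    have := (nontrivial_iff_ne_bot L).2 ne
    exact (Group.IsSolvable.commutator_lt_top_of_nontrivial L).ne ct
  have VL : V ≤ L := fun v hv => by
    obtain ⟨w, hw⟩ := exists_prime_orderOf_dvd_card' 2 ev
    by_cases v1 : v = 1
    · exact v1 ▸ one_mem L
    obtain ⟨g, rfl⟩ := h1 w v (fun k => by rw [Subtype.ext (a2 := (1 : L)) k] at hw; simp at hw)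
      (by rw [← sq, ← hw, ← coe_pow, pow_orderOf_eq_one]; rfl) v1 ((hV v).1 hv)
    exact hL.conj_mem _ w.2 g
  obtain ⟨R, hR, VR⟩ := exists_isSylowIn_ge (p := 2) (U := V)
    (fun v => ⟨1, Subtype.ext (by simpa [sq] using (hV _).1 v.2)⟩) VL
  have odd : Odd (R.relIndex L) := Nat.odd_iff.2 (by have := hR.not_dvd; omega)
  obtain ⟨σ, hσ, tr⟩ := t H V (normalizer (R : Set H)) n hV cV hp fun x hx y hy x1 y1 => by
    obtain ⟨g, e⟩ := h1 x y x1 ((hV x).1 hx) y1 ((hV y).1 hy)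
    obtain ⟨l, hl, k⟩ := hR.frattini (H := ⊤) (normalizer_eq_top L).ge (mem_top g)
    exact ⟨_, k, by rw [show l * g * x * (l * g)⁻¹ = l * (g * x * g⁻¹) * l⁻¹ by group, e, cz y hy l hl,
      mul_inv_cancel_right]⟩
  obtain ⟨x, y, hx, hy, xy, x1, y1⟩ : ∃ x y, x ∈ V ∧ y ∈ V ∧ x ≠ y ∧ x ≠ 1 ∧ y ≠ 1 := by
    let _ := Fintype.ofFinite V
    obtain ⟨a, b, c, ab, ac, bc⟩ := Fintype.two_lt_card_iff.1 (show 2 < Fintype.card V by
      rw [← Nat.card_eq_fintype_card, cV]; omega)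
    by_cases a1 : a = 1
    · subst a1
      exact ⟨b, c, b.2, c.2, Subtype.coe_ne_coe.2 bc, Subtype.coe_ne_coe.2 ab.symm, Subtype.coe_ne_coe.2 ac.symm⟩
    by_cases b1 : b = 1
    · subst b1
      exact ⟨a, c, a.2, c.2, Subtype.coe_ne_coe.2 ac, Subtype.coe_ne_coe.2 ab, Subtype.coe_ne_coe.2 bc.symm⟩
    exact ⟨a, b, a.2, b.2, Subtype.coe_ne_coe.2 ab, Subtype.coe_ne_coe.2 a1, Subtype.coe_ne_coe.2 b1⟩
  have na : ¬ IsMulCommutative R := fun k => by
    have e := MonoidHom.transfer_eq_pow (Abelianization.of (G := R.subgroupOf L)) ⟨x, VL hx⟩ fun i g _ => by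
      rw [mul_assoc, ← (Commute.pow_right (Subtype.ext (cz x hx g g.2) : Commute g ⟨x, VL hx⟩) i).eq,
        inv_mul_cancel_left]
    rw [(MonoidHom.mem_ker).1 (Abelianization.commutator_subset_ker _ (ct ▸ mem_top _)), eq_comm,
      ← MonoidHom.mem_ker, Abelianization.ker_of] at e
    have e2 := mem_bot.1 ((commutator_le.2 fun a _ b _ => mem_bot.2 (commutatorElement_eq_one_iff_mul_comm.2
      (Subtype.ext (Subtype.ext (Subtype.mk.inj (k.is_comm.comm (⟨a.1.1, a.2⟩ : R) ⟨b.1.1, b.2⟩))))) : _ ≤ ⊥) e)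
    obtain ⟨j, hj⟩ := odd
    have e3 : x ^ R.relIndex L = 1 := congrArg (fun a => (a.1.1 : H)) e2
    rw [hj, pow_succ, pow_mul, sq, (hV x).1 hx, one_pow, one_mul] at e3
    exact x1 e3
  have i2 : ∀ a : R, a ^ 2 = 1 ↔ (a : H) ∈ V := fun a => by rw [hV, Subtype.ext_iff, sq]; rfl
  obtain ⟨-, f1, f2⟩ := Cfsg.Agent.S3776.result hR.isPGroup na
    ⟨⟨x, VR hx⟩, ⟨y, VR hy⟩, Subtype.coe_ne_coe.1 xy, Subtype.coe_ne_coe.1 x1, (i2 _).2 hx, Subtype.coe_ne_coe.1 y1,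
      (i2 _).2 hy⟩
    ⟨zpowers (R.normalizerMonoidHom ⟨σ, hσ⟩), Group.isSolvable_of_comm fun a b => mul_comm' a b, fun a b a1 a2 b1 b2 => by
      obtain ⟨i, e⟩ := tr a ((i2 a).1 a2) b ((i2 b).1 b2) (Subtype.coe_ne_coe.2 a1) (Subtype.coe_ne_coe.2 b1)
      exact ⟨_, pow_mem (mem_zpowers _) i, Subtype.ext (by rw [← map_pow]; exact e)⟩⟩
  have sq : ∀ a ∈ R, a * a ∈ V := fun a ha => by
    have := (i2 _).1 ((f2 _).1 (f1 ▸ pow_mem_frattini hR.isPGroup ⟨a, ha⟩))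
    rwa [coe_pow, sq] at this
  have cu := cube hV VR (fun v hv a ha => cz v hv a (hR.le ha)) sq
  refine ⟨R, VR, hR.le, hR.isPGroup, odd, sq, fun Y hY VY YL => or_iff_not_imp_left.2 fun k => ?_⟩
  push Not at k
  obtain ⟨a, ha, b, hb, e, k⟩ := k
  have a1 : a * a ≠ 1 := fun j => k (mul_mem (inv_mem ((hV a).2 j)) ((hV b).2 (e ▸ j)))
  have c1 := count (T := Y ⊓ R) hV (le_inf VY VR) (fun a ha => sq a ha.2) (fun x hx y hy x1 y1 =>
    let ⟨i, e⟩ := tr x hx y hy x1 y1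
    ⟨_, pow_mem (inf_normalizer_le_normalizer_inf ⟨(normalizer_eq_top Y).ge (mem_top σ), hσ⟩) i, e⟩) (sq a ha.2) a1
  have c2 := big hV (le_inf VY VR) (fun v hv a ha => cz v hv a (hR.le ha.2)) ha hb e k
  obtain ⟨m, hm⟩ := (hR.isPGroup.to_inf_right (H := Y)).exists_card_eq
  have c3 := card_le_of_le (inf_le_right : Y ⊓ R ≤ R)
  rw [cV] at c1 c2 cu
  rw [hm] at c1 c3
  have c4 := arith q2 c1 c2 (c3.trans cu)
  have c5 : Y ⊓ R = R := eq_of_le_of_card_ge inf_le_right (by omega)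
  refine ⟨inf_eq_right.1 c5, fun z hz z1 => arith2 q2 ?_⟩
  have := count hV VR sq (fun x hx y hy x1 y1 => let ⟨i, e⟩ := tr x hx y hy x1 y1; ⟨_, pow_mem hσ i, e⟩) hz z1
  rw [cV] at this
  rw [← this, ← c4, ← hm, c5]

end CL.Pyr
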