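import Cfsg.Agent.Base

/-! Groups with a prime power number of involutions forming one class (S3930): definitions and the statements of the
steps. -/

set_option autoImplicit false

namespace CL.Pyr

open Subgroup

universe u

/-- `V` is the set of elements of square one. -/
def Om {H : Type u} [Group H] (V : Subgroup H) : Prop := ∀ x, x ∈ V ↔ x * x = 1

/-- All involutions are conjugate. -/
def One (H : Type u) [Group H] : Prop :=
  ∀ x y : H, x ≠ 1 → x * x = 1 → y ≠ 1 → y * y = 1 → ∃ g : H, g * x * g⁻¹ = y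

/-- Every automorphism of `V` is induced by conjugation. -/
def Full {H : Type u} [Group H] (V : Subgroup H) : Prop :=
  ∀ φ : MulAut V, ∃ h : H, ∀ v : V, h * v * h⁻¹ = (φ v : H)

/-- No nontrivial normal subgroup of odd order. -/
def NoOdd (H : Type u) [Group H] : Prop := ∀ N : Subgroup H, N.Normal → Odd (Nat.card N) → N = ⊥

/-- The number of involutions. -/
noncomputable def ninv (G : Type u) [Group G] : ℕ := Nat.card {x : G // orderOf x = 2}

/-- The non-solvable examples. -/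
def ExS : Prop := ∀ p k : ℕ, p.Prime → p ≠ 2 → 1 ≤ k → ¬ Odd k → p ^ k ≠ 9 →
  ∃ (G : Type) (_ : Group G) (_ : Finite G), ninv G = p ^ k ∧
    (∀ x y : G, orderOf x = 2 → orderOf y = 2 → ∃ g : G, g * x * g⁻¹ = y) ∧ ¬ Group.IsSolvable G

/-- All involutions are congruent modulo a normal `p`-subgroup. -/
def BS : Prop := ∀ (G : Type u) [Group G] [Finite G] (p k : ℕ) (K : Subgroup G), p.Prime → p ≠ 2 → K.Normal →
  IsPGroup p K → (∀ x y : G, orderOf x = 2 → orderOf y = 2 → x * y ∈ K) → ninv G = p ^ k → (Odd k ∨ p ^ k = 9) →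
  Group.IsSolvable G

/-- All involutions lie in a normal elementary abelian subgroup and their number is a Mersenne prime. -/
def AS : Prop := ∀ (H : Type u) [Group H] [Finite H] (V : Subgroup H) (n : ℕ), Om V → One H → NoOdd H →
  Nat.card V = 2 ^ n → (2 ^ n - 1).Prime → Group.IsSolvable H

/-- The main implication. -/
def MainS : Prop := ∀ (G : Type u) [Group G] [Finite G] (p k : ℕ), p.Prime → p ≠ 2 → ninv G = p ^ k →
  (∀ x y : G, orderOf x = 2 → orderOf y = 2 → ∃ g : G, g * x * g⁻¹ = y) → (Odd k ∨ p ^ k = 9) → Group.IsSolvable G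

def RedS : Prop := BS.{u} → AS.{u} → MainS.{u}

/-- A transitive group on a prime number of involutions has a transitive cyclic subgroup. -/
def TS : Prop := ∀ (H : Type u) [Group H] [Finite H] (V N : Subgroup H) (n : ℕ), Om V → Nat.card V = 2 ^ n →
  (2 ^ n - 1).Prime → (∀ x ∈ V, ∀ y ∈ V, x ≠ 1 → y ≠ 1 → ∃ g ∈ N, g * x * g⁻¹ = y) →
  ∃ σ ∈ N, ∀ x ∈ V, ∀ y ∈ V, x ≠ 1 → y ≠ 1 → ∃ i : ℕ, σ ^ i * x * (σ ^ i)⁻¹ = y

/-- A non-abelian simple group with elementary abelian Sylow 2-subgroups has one class of involutions. -/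
def F1S : Prop := ∀ (S : Type u) [Group S] [Finite S] [IsSimpleGroup S], ¬ IsMulCommutative S →
  (∀ P : Sylow 2 S, ∀ x ∈ (P : Subgroup S), x * x = 1) → One S

/-- A Sylow 2-subgroup `R` of a perfect normal subgroup `L` centralising `V`. -/
structure Sq {H : Type u} [Group H] (V L R : Subgroup H) (q : ℕ) : Prop where
  le : V ≤ R
  le' : R ≤ L
  pg : IsPGroup 2 R
  odd : Odd (R.relIndex L)
  sq : ∀ x ∈ R, x * x ∈ V
  fib : ∀ Y : Subgroup H, Y.Normal → V ≤ Y → Y ≤ L →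
    (∀ x ∈ Y ⊓ R, ∀ y ∈ Y ⊓ R, x * x = y * y → x⁻¹ * y ∈ V) ∨
      (R ≤ Y ∧ ∀ z ∈ V, z ≠ 1 → Nat.card {x : R // (x : H) * x = z} = q * (q + 1))

def Cl1 : Prop := ∀ (H : Type u) [Group H] [Finite H] (V L : Subgroup H) (n : ℕ), Om V → One H →
  Nat.card V = 2 ^ n → (2 ^ n - 1).Prime → L.Normal → L ≤ centralizer (V : Set H) → ⁅L, L⁆ = L → L ≠ ⊥ →
  ∃ R, Sq V L R (2 ^ n)

def Cl2 : Prop := ∀ (H : Type u) [Group H] [Finite H] (V L R : Subgroup H) (n : ℕ), Om V → NoOdd H →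
  Nat.card V = 2 ^ n → 2 ≤ n → L.Normal → L ≤ centralizer (V : Set H) → ⁅L, L⁆ = L → Sq V L R (2 ^ n) → False

/-- Reduction of the full linear group to dimension three. -/
def R3S : Prop := ∀ (H : Type u) [Group H] [Finite H] (V : Subgroup H) (n : ℕ), Om V → Full V →
  Nat.card V = 2 ^ n → Odd n → 3 ≤ n → ∃ (H₀ : Subgroup H) (V₀ : Subgroup H₀), Om V₀ ∧ Full V₀ ∧ Nat.card V₀ = 8

def N3S : Prop := ∀ (H : Type u) [Group H] [Finite H] (V : Subgroup H), Om V → Full V → Nat.card V = 8 → False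

def N3T : Prop := ∀ (H : Type u) [Group H] [Finite H] (V : Subgroup H), Om V → Full V → Nat.card V = 8 →
  IsPGroup 2 (centralizer (V : Set H)) → False

def N3red : Prop := N3T.{u} → N3S.{u}

def NaS : Prop := ∀ (H : Type u) [Group H] [Finite H] (V : Subgroup H), Om V → Full V → Nat.card V = 8 →
  IsPGroup 2 (centralizer (V : Set H)) →
  (∀ x ∈ centralizer (V : Set H), ∀ y ∈ centralizer (V : Set H), x * y = y * x) → False

def NbS : Prop := ∀ (H : Type u) [Group H] [Finite H] (V : Subgroup H), Om V → Full V → Nat.card V = 8 →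
  IsPGroup 2 (centralizer (V : Set H)) → ∀ x ∈ centralizer (V : Set H), ∀ y ∈ centralizer (V : Set H), x * y = y * x

/-- An involution acting on a homocyclic group of rank three. -/
def Ab1 : Prop := ∀ (M : Type u) [AddCommGroup M] [Finite M] (e : ℕ) (τ ρ : M →+ M) (v u w m : M),
  (∀ x : M, 2 ^ (e + 1) • x = 0) → Nat.card {x : M // x + x = 0} = 8 → v + v = 0 → u + u = 0 → w + w = 0 →
  (∀ a b c : ℕ, a • v + b • u + c • w = 0 → Even a ∧ Even b ∧ Even c) →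
  (∀ y : M, y + y = 0 → ∃ x : M, 2 ^ e • x = y) →
  (∀ x, τ (τ x) = x) → (∀ x, ρ (ρ (ρ x)) = x) → (∀ x, τ (ρ (τ x)) = ρ (ρ x)) →
  τ v = v → τ u = u + v → τ w = w → ρ v = u → ρ u = u + v → ρ w = w → τ m = m → (∀ y, m + (y + τ y) ≠ 0) →
  (e ≠ 0 ∧ ∃ d : M, 2 ^ e • d = v ∧ ∀ y, ∃ k : ℤ, τ y - y = k • d) ∨
    (∃ n : M, 2 ^ e • n = v ∧ (∀ y, ∃ k : ℤ, y + τ y = k • n) ∧ ∃ y, m = w + (y + τ y))

/-- An anisotropic quadratic map to a four-group commuting with `S₃`. -/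
def Q2 : Prop := ∀ (W : Type u) (V : Type) [AddCommGroup W] [Finite W] [AddCommGroup V] (s : W → V)
  (B : W →+ W →+ V) (τ ρ : W →+ W) (τ' ρ' : V →+ V) (v : V) (W₀ : AddSubgroup W),
  (∀ x : W, x + x = 0) → (∀ x : V, x + x = 0) → (∀ x y, s (x + y) = s x + s y + B x y) → (∀ x, s x = 0 → x = 0) →
  (∀ x, τ (τ x) = x) → (∀ x, ρ (ρ (ρ x)) = x) → (∀ x, τ (ρ (τ x)) = ρ (ρ x)) →
  (∀ x, s (τ x) = τ' (s x)) → (∀ x, s (ρ x) = ρ' (s x)) → (∀ x ∈ W₀, τ x ∈ W₀) → (∀ x ∈ W₀, ρ x ∈ W₀) →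
  (∀ x ∈ W₀, s x = 0 ∨ s x = v ∨ s x = ρ' v ∨ s x = ρ' (ρ' v)) → v ≠ 0 → ρ' v ≠ v → v + ρ' v + ρ' (ρ' v) = 0 →
  τ' (ρ' v) = ρ' (ρ' v) → τ' (ρ' (ρ' v)) = ρ' v → Nat.card W₀ ≤ 4

/-- An anisotropic quadratic map to the natural module commuting with `GL₃(2)` is additive. -/
def QS : Prop := ∀ (W : Type u) [AddCommGroup W] [Finite W]
  (a : ((Fin 3 → ZMod 2) ≃+ (Fin 3 → ZMod 2)) → W →+ W) (s : W → Fin 3 → ZMod 2) (B : W →+ W →+ (Fin 3 → ZMod 2)),
  (∀ x, a (AddEquiv.refl _) x = x) → (∀ g h x, a (g.trans h) x = a h (a g x)) → (∀ x : W, x + x = 0) →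
  (∀ x y, s (x + y) = s x + s y + B x y) → (∀ x, s x = 0 → x = 0) → (∀ g x, s (a g x) = g (s x)) →
  ∀ x y, B x y = 0

/-- Assembly of the case of a normal elementary abelian subgroup. -/
def AsmS : Prop := Cl1.{u} → Cl2.{u} → R3S.{u} → N3S.{u} → AS.{u}

theorem n3S_of (red : N3red.{u}) (na : NaS.{u}) (nb : NbS.{u}) : N3S.{u} :=
  red fun H _ _ V h1 h2 h3 h4 => na H V h1 h2 h3 h4 (nb H V h1 h2 h3 h4)

theorem final (ex : ExS) (mn : MainS.{0}) (p k : ℕ) (hp : p.Prime) (hp2 : p ≠ 2) (hk : 1 ≤ k) :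
    (∀ (G : Type) [Group G] [Finite G], Nat.card {x : G // orderOf x = 2} = p ^ k →
      (∀ x y : G, orderOf x = 2 → orderOf y = 2 → ∃ g : G, g * x * g⁻¹ = y) → Group.IsSolvable G) ↔
      (Odd k ∨ p ^ k = 9) := by
  refine ⟨fun h => ?_, fun h G _ _ h1 h2 => mn G p k hp hp2 h1 h2 h⟩
  by_contra hn
  obtain ⟨G, _, _, h1, h2, h3⟩ := ex p k hp hp2 hk (fun x => hn (.inl x)) fun x => hn (.inr x)
  exact h3 (h G h1 h2)

end CL.Pyr
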