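/-
Groups with a prime power number of involutions forming one class: the perfect centraliser of the involutions.
-/
import Cfsg.Agent.Pyr.Defs
import Cfsg.Agent.Even.Amb2
import Cfsg.Agent.Grp.MinNormal
import Cfsg.Agent.Grp.PNilp
import Cfsg.Agent.S0205
import Cfsg.Agent.S0088

set_option autoImplicit false
set_option linter.unusedSectionVars false

namespace CL.Pyr

open Cfsg Subgroup CL.Grp CL.Even
open scoped commutatorElement

universe u

namespace C2x

theorem split {X : Type u} [Group X] [Finite X] {Y : Subgroup X} (hY : IsMinNormal Y) (hn : ¬ Group.IsSolvable Y) :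
    ∃ S ≤ Y, IsSimpleGroup S ∧ ¬ IsMulCommutative S ∧ Y ≤ S ⊔ Y ⊓ 𝒞(S) ∧ S ⊓ 𝒞(S) = ⊥ := by
  have := hY.normal
  obtain ⟨S, h1, h2⟩ := exists_minimal_le_of_wellFoundedLT (fun A : Subgroup X => Y ≤ 𝒩(A) ∧ A ≠ ⊥) Y
    ⟨le_normalizer, hY.ne_bot⟩
  have mn : ∀ K ≤ S, Y ≤ 𝒩(K) → K = ⊥ ∨ K = S := fun K k1 k2 =>
    or_iff_not_imp_left.2 fun k3 => le_antisymm k1 (h2.2 ⟨k2, k3⟩ k1)
  have h3 : Y ≤ S ⊔ Y ⊓ 𝒞(S) := by
    refine (hY.eq_of_le (K := normalClosure (S : Set X)) (fun e => h2.1.2 (eq_bot_iff.2 (le_normalClosure.trans e.le)))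
      (normalClosure_le_normal h1)).ge.trans ((closure_le _).2 fun x hx => ?_)
    obtain ⟨s, hs, e⟩ := Group.mem_conjugatesOfSet_iff.1 hx
    obtain ⟨g, rfl⟩ := isConj_iff.1 e
    have a1 : cj g S ≤ Y := cj_le_of_le h1 (le_normalizer_of_normal (mem_top g))
    have a2 : Y ≤ 𝒩(cj g S) := by
      rw [← cj_norm, ← cj_eq (H := Y) (le_normalizer_of_normal (mem_top g))]; exact cj_mono g h2.1.1
    rcases mn _ inf_le_left (le_norm_inf h2.1.1 a2) with e | e
    · refine mem_sup_right (mem_inf.2 ⟨a1 (conj_mem_cj g hs), ?_⟩)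
      refine (commutator_eq_bot_iff_le_centralizer.1 (eq_bot_iff.2 (le_trans (le_inf ?_ ?_) e.le))) (conj_mem_cj g hs)
      · exact commutator_le.2 fun a ha b hb => mul_mem (conj_mem (h2.1.1 (a1 ha)) hb) (inv_mem hb)
      · exact commutator_le.2 fun a ha b hb => by
          rw [commutatorElement_def, mul_assoc a, mul_assoc a]
          exact mul_mem ha (conj_mem (a2 (h1 hb)) (inv_mem ha))
    · exact mem_sup_left ((eq_of_le_of_card_ge (inf_eq_left.1 e) (card_cj g S).le).ge (conj_mem_cj g hs))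
  have h4 : ¬ S ≤ 𝒞(S) := fun e => by
    have a1 : Y ≤ 𝒞(S) := h3.trans (sup_le e inf_le_right)
    have a2 := hY.eq_of_le (K := Y ⊓ 𝒞(Y)) (fun e => h2.1.2 (eq_bot_iff.2 (le_trans (le_inf h1
      (le_centralizer_iff.1 a1)) e.le))) inf_le_left
    exact hn (Group.isSolvable_of_comm fun a b => Subtype.ext ((a2.ge b.2).2 a a.2))
  have h5 : Nontrivial S := (nontrivial_iff_ne_bot S).2 h2.1.2
  refine ⟨S, h1, ⟨fun N hN => ?_⟩, fun e => h4 fun a ha b hb => congrArg Subtype.val (e.1.1 ⟨b, hb⟩ ⟨a, ha⟩), h3,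
    (mn _ inf_le_left (le_norm_inf h2.1.1 (le_norm_cent h2.1.1))).resolve_right fun e => h4 (inf_eq_left.1 e)⟩
  refine (mn (N.map S.subtype) (map_subtype_le N) (h3.trans (sup_le (le_normalizer_map_subtype N)
    (inf_le_right.trans ((cent_mono (map_subtype_le N)).trans (cent_le_norm _)))))).imp
    (map_eq_bot_iff_of_injective _ S.subtype_injective).1 fun e => map_injective S.subtype_injective ?_
  rw [e, ← MonoidHom.range_eq_map, range_subtype]

theorem arith {n j : ℕ} (hn : 2 ≤ n) : 2 ^ j ≠ 2 ^ n + 2 ^ n * (2 ^ n + 1) := fun e => by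
  obtain ⟨i, -, h⟩ := (Nat.dvd_prime_pow Nat.prime_two).1 (show 2 ^ n + 2 ∣ 2 ^ j from ⟨2 ^ n, by rw [e]; ring⟩)
  obtain ⟨m, rfl⟩ := Nat.exists_eq_add_of_le hn
  clear e
  rw [pow_add] at h
  have := Nat.two_pow_pos m
  rcases i with _ | _ | i
  · omega
  · omega
  · rw [pow_succ, pow_succ] at h; omega

variable {H : Type u} [Group H] [Finite H] {V L R : Subgroup H} {q : ℕ} [V.Normal]

local notation "π" => QuotientGroup.mk' V

theorem one_iff {a : H} : π a = 1 ↔ a ∈ V := QuotientGroup.eq_one_iff a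

theorem syl (h : Sq V L R q) : IsSylowIn 2 R L := ⟨h.le', h.pg, h.odd.not_two_dvd_nat⟩

section
variable (hV : Om V) (hc : L ≤ 𝒞(V))
include hV hc

theorem sqv {a b : H} (ha : a ∈ L) (e : π a = π b) : a * a = b * b := by
  have h1 : a⁻¹ * b ∈ V := QuotientGroup.eq.1 e
  calc a * a = a * a * (a⁻¹ * b * (a⁻¹ * b)) := by rw [(hV _).1 h1, mul_one]
    _ = a * (a * (a⁻¹ * b)) * (a⁻¹ * b) := by group
    _ = _ := by rw [← comm_of_mem (hc ha) h1]; group

theorem two (h : Sq V L R q) {x : H} (hx : x ∈ L) {k : ℕ} (e : π x ^ 2 ^ k = 1) : x * x ∈ V := by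
  have h1 : x ^ 2 ^ (k + 1) = 1 := by
    rw [pow_succ, pow_mul, pow_two]; exact (hV _).1 (one_iff.1 (by rwa [map_pow]))
  obtain ⟨g, -, h2⟩ := (syl h).exists_conj_le (U := zpowers x) (IsPGroup.of_card_dvd_pow (n := k + 1)
    (by rw [Nat.card_zpowers]; exact orderOf_dvd_of_pow_eq_one h1)) (zpowers_le.2 hx)
  have h3 := h.sq _ (h2 (conj_mem_conj_smul g (mem_zpowers x)))
  rw [conj_mul] at h3
  exact (mem_normalizer_iff.1 (le_normalizer_of_normal (mem_top g)) _).2 h3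

theorem fix (h : Sq V L R q) {Y : Subgroup H} [Y.Normal]
    (hi : ∀ x ∈ Y ⊓ R, ∀ y ∈ Y ⊓ R, x * x = y * y → x⁻¹ * y ∈ V) {l x : H} (hl : l ∈ L) (hx : x ∈ Y ⊓ R)
    (h1 : l * x * l⁻¹ ∈ R) : π x * π l = π l * π x := by
  have h2 := hi x hx _ ⟨Normal.conj_mem ‹_› x hx.1 l, h1⟩ (by rw [conj_mul, conj_eq_of_mem (hc hl) (h.sq x hx.2)])
  have h3 : π x = π (l * x * l⁻¹) := QuotientGroup.eq.2 h2
  nth_rewrite 1 [h3]
  simp

theorem caseA (h : Sq V L R q) (hO : NoOdd H) (hp : ⁅L, L⁆ = L) {Z : Subgroup (H ⧸ V)} (hZ : IsMinNormal Z)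
    (hL : Z.comap π ≤ L) (hi : ∀ x ∈ Z.comap π ⊓ R, ∀ y ∈ Z.comap π ⊓ R, x * x = y * y → x⁻¹ * y ∈ V) : False := by
  have := hZ.normal
  have hs := QuotientGroup.mk'_surjective V
  have hVZ : V ≤ Z.comap π := fun v hv => by rw [mem_comap, one_iff.2 hv]; exact one_mem _
  have a1 : IsSylowIn 2 ((R ⊓ Z.comap π).map π) Z := by
    have := syl_map π ((syl h).inf_of_normalized hL le_normalizer_of_normal)
    rwa [map_comap_eq_self_of_surjective hs] at this
  have a2 : HasNormalPComplement 2 Z := hasNormalPComplement_of_normalizer_le_centralizer a1.toSylow fun g hg y hy => by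
    obtain ⟨l, e⟩ := hs g.1
    obtain ⟨x, hx, e'⟩ := hy
    have b1 : (g * y * g⁻¹ : Z).1 ∈ (R ⊓ Z.comap π).map π := (mem_normalizer_iff.1 hg y).1 ⟨x, hx, e'⟩
    have b2 : π (l * x * l⁻¹) ∈ (R ⊓ Z.comap π).map π := by
      rw [map_mul, map_mul, map_inv, e, e']; exact b1
    rw [← mem_comap, comap_map_eq, QuotientGroup.ker_mk', sup_eq_left.2 (le_inf h.le hVZ)] at b2
    have b3 := fix hV hc h hi (hL (show l ∈ Z.comap π by rw [mem_comap, e]; exact g.2)) ⟨hx.2, hx.1⟩ b2.1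
    rw [e, e'] at b3
    exact Subtype.ext b3
  obtain ⟨N, b1, b2, k, b3⟩ := hasNormalPComplement_iff_exists_normal.1 a2
  have a3 : Group.IsSolvable Z := (Group.isSolvable_iff_subgroup_quotient N).2
    ⟨Cfsg.Agent.S0205.result (Nat.coprime_two_right.1 b2), by
      have := (IsPGroup.of_card (G := Z ⧸ N) b3).isNilpotent
      infer_instance⟩
  have hV2 : IsPGroup 2 V := h.pg.to_le h.le
  have a4 : IsPGroup 2 (Z.comap π) := by
    obtain ⟨p, c1, c2, -⟩ := hZ.exists_isPGroup a3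
    by_cases e : p = 2
    · exact (e ▸ c2).comap_of_ker_isPGroup π (by rwa [QuotientGroup.ker_mk'])
    have := Fact.mk c1
    have c3 : IsSylowIn 2 V (Z.comap π) := ⟨hVZ, hV2, fun c3 => by
      obtain ⟨j, c4⟩ := c2.exists_card_eq
      nth_rewrite 1 [← QuotientGroup.ker_mk' V] at c3
      rw [relIndex_ker, map_comap_eq_self_of_surjective hs, c4] at c3
      exact e ((Nat.prime_dvd_prime_iff_eq Nat.prime_two c1).1 (Nat.prime_two.dvd_of_dvd_pow c3)).symm⟩
    have c4 : HasNormalPComplement 2 (Z.comap π) := hasNormalPComplement_of_sylow_le_center c3.toSylow fun x hx =>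
      mem_center_iff.2 fun g => Subtype.ext (comm_of_mem (hc (hL g.2)) hx).symm
    have c5 := hO ((pResidual 2 (Z.comap π)).map (Z.comap π).subtype) inferInstance (by
      rw [card_map_subtype]; exact Nat.coprime_two_right.1 (hasNormalPComplement_iff_coprime_pResidual.1 c4))
    exact pResidual_eq_bot_iff.1 ((map_eq_bot_iff_of_injective _ (subtype_injective _)).1 c5)
  have a5 : Z.comap π ≤ R := (syl h).le_of_normalized a4 hL le_normalizer_of_normal
  have a6 := syl_map π (syl h)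
  have a7 := Cfsg.Agent.S0088.result (a6.toSylow : Subgroup (L.map π)) ⟨⟨fun a b => by
    obtain ⟨x, c1, c2⟩ := a.2
    obtain ⟨y, c3, c4⟩ := b.2
    have k : ∀ z ∈ R, (π z)⁻¹ = π z := fun z hz => inv_eq_of_mul_eq_one_right (by rw [← map_mul, one_iff]; exact h.sq z hz)
    refine Subtype.ext (Subtype.ext ?_)
    change a.1.1 * b.1.1 = b.1.1 * a.1.1
    change π x = a.1.1 at c2
    change π y = b.1.1 at c4
    rw [← c2, ← c4, ← map_mul, ← k _ (mul_mem c1 c3), map_mul, mul_inv_rev, k x c1, k y c3]⟩⟩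
    a6.toSylow.card_coprime_index
  refine hZ.ne_bot (eq_bot_iff.2 fun y hy => ?_)
  obtain ⟨x, rfl⟩ := hs y
  have c1 : π x ∈ L.map π := mem_map_of_mem _ (hL hy)
  have c2 : commutator (L.map π) = ⊤ := map_injective (subtype_injective _) (by
    rw [map_subtype_commutator, ← map_commutator, hp, ← MonoidHom.range_eq_map, range_subtype])
  refine congrArg Subtype.val (mem_bot.1 (a7.le (x := ⟨π x, c1⟩) ⟨⟨mem_map_of_mem _ (a5 hy), c2 ▸ mem_top _⟩,
    mem_center_iff.2 fun g => Subtype.ext ?_⟩))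
  obtain ⟨l, c3, c4⟩ := g.2
  change g.1 * π x = π x * g.1
  rw [← c4]
  exact (fix hV hc h hi c3 ⟨hy, a5 hy⟩ (a5 (Normal.conj_mem inferInstance x hy l))).symm

theorem caseB (f : F1S.{u}) {n : ℕ} (h : Sq V L R (2 ^ n)) (hq : Nat.card V = 2 ^ n) (hn : 2 ≤ n)
    {Z : Subgroup (H ⧸ V)} (hZ : IsMinNormal Z) (hL : Z.comap π ≤ L) (hR : R ≤ Z.comap π) (hs : ¬ Group.IsSolvable Z)
    (hf : ∀ z ∈ V, z ≠ 1 → Nat.card {x : R // (x : H) * x = z} = 2 ^ n * (2 ^ n + 1)) : False := by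
  obtain ⟨S, a1, a2, a3, a4, a5⟩ := split hZ hs
  have hsu := QuotientGroup.mk'_surjective V
  have hS : S.comap π ≤ L := (comap_mono a1).trans hL
  have hT : (Z ⊓ 𝒞(S)).comap π ≤ L := (comap_mono inf_le_left).trans hL
  have hVS : V ≤ S.comap π := fun v hv => by rw [mem_comap, one_iff.2 hv]; exact one_mem _
  have b1 : One S := f S a3 fun P x hx => by
    obtain ⟨k, e⟩ := P.isPGroup' ⟨x, hx⟩
    obtain ⟨l, e'⟩ := hsu x.1
    have := two hV hc h (hS (show l ∈ S.comap π by rw [mem_comap, e']; exact x.2)) (k := k)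
      (by rw [e']; exact congrArg (fun y : P => y.1.1) e)
    exact Subtype.ext (by rw [← one_iff, map_mul, e'] at this; exact this)
  have b2 : ∃ t : S, orderOf t = 2 := exists_prime_orderOf_dvd_card' 2 (even_iff_two_dvd.1 (Nat.not_odd_iff_even.1
    fun e => a3 ⟨⟨IsSimpleGroup.comm_iff_isSolvable.2 (Cfsg.Agent.S0205.result e)⟩⟩))
  obtain ⟨t, b2⟩ := b2
  obtain ⟨a, ea⟩ := hsu t.1
  have ha : a ∈ S.comap π := by rw [mem_comap, ea]; exact t.2
  have t1 : t ≠ 1 := fun e => by simp [e] at b2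
  have t2 : t * t = 1 := by rw [← pow_two, ← b2, pow_orderOf_eq_one]
  have aV : a * a ∈ V := by rw [← one_iff, map_mul, ea]; exact congrArg Subtype.val t2
  have a0 : a * a ≠ 1 := fun e => t1 (Subtype.ext (ea.symm.trans (one_iff.2 ((hV a).2 e))))
  have b3 : ∀ x ∈ S.comap π, x ∉ V → x * x ∈ V → x * x = a * a := fun x k1 k2 k3 => by
    obtain ⟨g, e⟩ := b1 t ⟨π x, k1⟩ t1 t2 (fun e => k2 (one_iff.1 (congrArg Subtype.val e)))
      (Subtype.ext (by rw [← one_iff, map_mul] at k3; exact k3))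
    obtain ⟨l, el⟩ := hsu g.1
    rw [sqv hV hc (hS k1) (b := l * a * l⁻¹) (by rw [map_mul, map_mul, map_inv, el, ea]; exact (congrArg Subtype.val e).symm),
      conj_mul, conj_eq_of_mem (hc (hS (show l ∈ S.comap π by rw [mem_comap, el]; exact g.2))) aV]
  have b4 : S.comap π ≤ 𝒞((Z ⊓ 𝒞(S)).comap π) := by
    have c1 : ⁅S.comap π, (Z ⊓ 𝒞(S)).comap π⁆ ≤ V := commutator_le.2 fun x hx y hy => by
      rw [← one_iff, map_commutatorElement, commutatorElement_eq_one_iff_mul_comm]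
      exact hy.2 _ hx
    have c2 : ⁅⁅S.comap π, (Z ⊓ 𝒞(S)).comap π⁆, S.comap π⁆ = ⊥ :=
      commutator_eq_bot_iff_le_centralizer.2 (c1.trans (le_centralizer_iff.1 (hS.trans hc)))
    have c3 := commutator_eq_bot_iff_le_centralizer.1
      (commutator_commutator_eq_bot_of_rotate c2 (by rwa [commutator_comm ((Z ⊓ 𝒞(S)).comap π)]))
    have c4 : ⁅S, S⁆ = S := by
      rw [← map_subtype_commutator, (a2.eq_bot_or_eq_top_of_normal (commutator S) inferInstance).resolve_left fun e =>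
        a3 ((commutator_eq_bot_iff S).1 e), ← MonoidHom.range_eq_map, range_subtype]
    refine le_trans (le_of_eq ?_) (sup_le c3 (le_centralizer_iff.1 (hT.trans hc)))
    have c5 := comap_map_eq π ⁅S.comap π, S.comap π⁆
    rwa [map_commutator, QuotientGroup.ker_mk', map_comap_eq_self_of_surjective hsu, c4] at c5
  have b5 : ∀ x ∈ R, x * x = a * a → x ∈ S.comap π := fun x k1 k2 => by
    obtain ⟨s, c1, u, c2, e⟩ := (mem_sup_nl (inf_le_right.trans (cent_le_norm S))).1 (a4 (hR k1))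
    obtain ⟨y, rfl⟩ := hsu s
    have c3 : y⁻¹ * x ∈ (Z ⊓ 𝒞(S)).comap π := by rw [mem_comap, map_mul, map_inv, ← e, inv_mul_cancel_left]; exact c2
    obtain ⟨b, rfl⟩ : ∃ b, x = y * b := ⟨y⁻¹ * x, by group⟩
    rw [inv_mul_cancel_left] at c3
    have c4 : ∀ w ∈ S.comap π, w * b * (w * b) = w * w * (b * b) := fun w hw => by
      rw [mul_assoc w, ← mul_assoc b, comm_of_mem (b4 hw) c3]; group
    have c5 : y * y ∈ V := by
      rw [← one_iff, ← mem_bot, ← a5]
      refine ⟨mul_mem (show y ∈ S.comap π from c1) c1, ?_⟩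
      have : π (y * y) = (π (b * b))⁻¹ := eq_inv_of_mul_eq_one_left (by rw [← map_mul, ← c4 y c1, k2, one_iff]; exact aV)
      rw [this]
      exact 𝒞(S).inv_mem (mul_mem c3 c3).2
    rw [c4 y c1] at k2
    by_cases c6 : y ∈ V
    · rw [(hV y).1 c6, one_mul] at k2
      have c7 : a * b ∈ V := (hV _).2 (by rw [c4 a ha, k2]; exact (hV _).1 aV)
      exact mul_mem c1 ((mul_mem_cancel_left ha).1 (hVS c7))
    · rw [b3 y c1 c6 c5, mul_eq_left] at k2
      exact mul_mem c1 (hVS ((hV b).2 k2))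
  have b6 : ((R ⊓ S.comap π : Subgroup H) : Set H) = (V : Set H) ∪ {x | x ∈ R ∧ x * x = a * a} := by
    ext x
    refine ⟨fun k => (em (x ∈ V)).imp_right fun k' => ⟨k.1, b3 x k.2 k' (h.sq x k.1)⟩, ?_⟩
    rintro (k | k)
    exacts [⟨h.le k, hVS k⟩, ⟨k.1, b5 x k.1 k.2⟩]
  obtain ⟨j, b7⟩ := (h.pg.to_le (inf_le_left (b := S.comap π))).exists_card_eq
  refine arith (j := j) hn ?_
  rw [← b7, ← hf _ aV a0, ← hq, ← SetLike.coe_sort_coe, Nat.card_coe_set_eq, b6,
    Set.ncard_union_eq (Set.disjoint_left.2 fun x k1 k2 => a0 (k2.2.symm.trans ((hV x).1 k1))), ← Nat.card_coe_set_eq,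
    ← Nat.card_coe_set_eq]
  congr 1
  exact (Nat.card_congr (Equiv.subtypeSubtypeEquivSubtypeInter _ fun x => x * x = a * a)).symm

end

end C2x

open C2x in
theorem cl2 (f : F1S.{u}) : Cl2.{u} := by
  intro H _ _ V L R n hV hO hq hn hL hc hp h
  have : V.Normal := ⟨fun v hv g => (hV _).2 (by rw [conj_mul, (hV v).1 hv]; group)⟩
  have hVL := h.le.trans h.le'
  have ns : ¬ Group.IsSolvable L := fun e => by
    have : Nontrivial L := (nontrivial_iff_ne_bot L).2 fun e => by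
      rw [eq_bot_iff.2 (hVL.trans e.le), card_bot] at hq
      exact absurd hq.symm (Nat.one_lt_two_pow (by omega)).ne'
    refine (Group.IsSolvable.commutator_lt_top_of_nontrivial L).ne (map_injective (subtype_injective _) ?_)
    rw [map_subtype_commutator, hp, ← MonoidHom.range_eq_map, range_subtype]
  have sV : Group.IsSolvable V := Group.isSolvable_of_comm fun a b => Subtype.ext (hc (hVL b.2) a a.2)
  have := hL.map _ (QuotientGroup.mk'_surjective V)
  obtain ⟨Z, hZ, h1⟩ := exists_isMinNormal_le (L.map (QuotientGroup.mk' V)) fun e => by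
    rw [Subgroup.map_eq_bot_iff, QuotientGroup.ker_mk'] at e
    exact ns (le_antisymm hVL e ▸ sV)
  have := hZ.normal
  have h2 : Z.comap (QuotientGroup.mk' V) ≤ L := (comap_mono h1).trans (by
    rw [comap_map_eq, QuotientGroup.ker_mk', sup_eq_left.2 hVL])
  have h3 : V ≤ Z.comap (QuotientGroup.mk' V) := fun v hv => by rw [mem_comap, one_iff.2 hv]; exact one_mem _
  rcases h.fib _ inferInstance h3 h2 with hi | ⟨h4, h5⟩
  · exact caseA hV hc h hO hp hZ h2 hi
  refine caseB hV hc f h hq hn hZ h2 h4 (fun e => ns ?_) h5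
  have h6 : Group.IsSolvable (Z.comap (QuotientGroup.mk' V)) :=
    Group.isSolvable_of_ker_le_range (inclusion h3) ((QuotientGroup.mk' V).subgroupComap Z) fun x hx =>
      ⟨⟨x, one_iff.1 (congrArg Subtype.val hx)⟩, rfl⟩
  exact (Group.isSolvable_iff_subgroup_quotient ((Z.comap (QuotientGroup.mk' V)).subgroupOf L)).2
    ⟨Group.isSolvable_of_isSolvable_injective (f := (subgroupOfEquivOfLe h2).toMonoidHom) (MulEquiv.injective _),
      Cfsg.Agent.S0205.result (h.odd.of_dvd_nat (relIndex_dvd_of_le_left L h4))⟩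

end CL.Pyr
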