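/-
Project PYR: the non-solvable examples `F² ⋊ SL₂(F)`.
-/
import Cfsg.Agent.Pyr.Defs
import Cfsg.Agent.Cls.SL2Sylow2

set_option autoImplicit false

namespace CL.Pyr

open scoped MatrixGroups

namespace ExA

variable {F : Type} [Field F]

/-- the natural action of `SL₂(F)` on `F²` -/
def act (F : Type) [Field F] : SL(2, F) →* MulAut (Multiplicative (Fin 2 → F)) where
  toFun g := AddEquiv.toMultiplicative (Matrix.SpecialLinearGroup.toLin' g).toAddEquiv
  map_one' := by ext v; simp
  map_mul' a b := by ext v; simp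

/-- the affine special linear group -/
abbrev AG (F : Type) [Field F] : Type := Multiplicative (Fin 2 → F) ⋊[act F] SL(2, F)

theorem act_neg (v : Multiplicative (Fin 2 → F)) : act F (-1) v = v⁻¹ := by
  ext i
  simp [act, Matrix.SpecialLinearGroup.toLin'_apply]

theorem neg_ne (h2 : (2 : F) ≠ 0) : (-1 : SL(2, F)) ≠ 1 := fun h => by
  have := congrArg (fun g : SL(2, F) => (g : Matrix (Fin 2) (Fin 2) F) 0 0) h
  simp at this
  exact h2 (by linear_combination -this)

theorem inv_iff (h2 : (2 : F) ≠ 0) (x : AG F) : orderOf x = 2 ↔ x.right = -1 := by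
  have : Fact (Nat.Prime 2) := ⟨Nat.prime_two⟩
  rw [orderOf_eq_prime_iff, sq]
  constructor
  · rintro ⟨h, h1⟩
    rcases CL.SL2.sl_eq_of_mul_self h2 (show x.right * x.right = 1 from congrArg SemidirectProduct.right h) with k | k
    · refine absurd (SemidirectProduct.ext ?_ k) h1
      have e : x.left * act F x.right x.left = 1 := congrArg SemidirectProduct.left h
      rw [k, map_one, MulAut.one_apply] at e
      have e' : (2 : F) • Multiplicative.toAdd x.left = 0 := by
        rw [two_smul]; exact congrArg Multiplicative.toAdd e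
      exact (smul_eq_zero.1 e').resolve_left h2
    · exact k
  · intro k
    refine ⟨SemidirectProduct.ext ?_ ?_, fun e => neg_ne h2 (k.symm.trans (congrArg SemidirectProduct.right e))⟩
    · show x.left * act F x.right x.left = 1
      rw [k, act_neg, mul_inv_cancel]
    · show x.right * x.right = 1
      rw [k]; simp

theorem ninv_eq (h2 : (2 : F) ≠ 0) : ninv (AG F) = Nat.card F ^ 2 := by
  have e : {x : AG F // orderOf x = 2} ≃ (Fin 2 → F) :=
    { toFun := fun x => Multiplicative.toAdd x.1.left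
      invFun := fun v => ⟨⟨Multiplicative.ofAdd v, -1⟩, (inv_iff h2 _).2 rfl⟩
      left_inv := fun x => Subtype.ext (SemidirectProduct.ext rfl ((inv_iff h2 _).1 x.2).symm)
      right_inv := fun _ => rfl }
  rw [ninv, Nat.card_congr e, Nat.card_fun, Nat.card_eq_fintype_card (α := Fin 2), Fintype.card_fin]

theorem conj (h2 : (2 : F) ≠ 0) (x y : AG F) (hx : orderOf x = 2) (hy : orderOf y = 2) :
    ∃ g : AG F, g * x * g⁻¹ = y := by
  rw [inv_iff h2] at hx hy
  refine ⟨SemidirectProduct.inl (Multiplicative.ofAdd ((2 : F)⁻¹ •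
    (Multiplicative.toAdd y.left - Multiplicative.toAdd x.left))), mul_inv_eq_iff_eq_mul.2 ?_⟩
  refine SemidirectProduct.ext ?_ (by simp [hx, hy])
  simp only [SemidirectProduct.mul_left, SemidirectProduct.left_inl, SemidirectProduct.right_inl, map_one,
    MulAut.one_apply, hy, act_neg]
  apply Multiplicative.toAdd.injective
  ext i
  simp only [toAdd_mul, toAdd_inv, toAdd_ofAdd, Pi.add_apply, Pi.neg_apply, Pi.smul_apply, Pi.sub_apply, smul_eq_mul]
  field_simp
  ring

theorem not_solv (h2 : (2 : F) ≠ 0) {a : F} (ha : a ≠ 0) (ha2 : a ^ 2 ≠ 1) : ¬ Group.IsSolvable (AG F) := fun h => by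
  have : Group.IsPerfect SL(2, F) := ⟨Matrix.SL2.commutator_eq_top ha ha2⟩
  have : Nontrivial SL(2, F) := ⟨⟨_, _, neg_ne h2⟩⟩
  exact Group.IsPerfect.not_isSolvable (G := SL(2, F))
    (Group.isSolvable_of_surjective (f := (SemidirectProduct.rightHom : AG F →* SL(2, F))) SemidirectProduct.rightHom_surjective)

theorem exists_a [Finite F] (h : 3 < Nat.card F) : ∃ a : F, a ≠ 0 ∧ a ^ 2 ≠ 1 := by
  classical
  by_contra hn
  push Not at hn
  have k : (Set.univ : Set F) ⊆ {0, 1, -1} := fun a _ => by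
    by_cases ha : a = 0
    · simp [ha]
    · rcases sq_eq_one_iff.1 (hn a ha) with e | e <;> simp [e]
  have k1 := Set.ncard_le_ncard k (Set.toFinite _)
  rw [Set.ncard_univ] at k1
  have k2 := Set.ncard_insert_le (0 : F) {1, -1}
  have k3 := Set.ncard_insert_le (1 : F) {-1}
  rw [Set.ncard_singleton] at k3
  omega

end ExA

theorem exS : ExS := by
  intro p k hp hp2 hk ho h9
  obtain ⟨m, rfl⟩ := Nat.not_odd_iff_even.1 ho
  have hm : m ≠ 0 := by omega
  have : Fact p.Prime := ⟨hp⟩
  have hc : Nat.card (GaloisField p m) = p ^ m := GaloisField.card p m hm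
  have h2 : (2 : GaloisField p m) ≠ 0 := fun e =>
    hp2 ((Nat.prime_dvd_prime_iff_eq hp Nat.prime_two).1 ((CharP.cast_eq_zero_iff (GaloisField p m) p 2).1
      (by exact_mod_cast e)))
  have h3 : 3 < p ^ m := by
    have k1 : 3 ≤ p := by have := hp.two_le; omega
    have k2 : p ≤ p ^ m := Nat.le_self_pow hm p
    have k3 : p ^ m ≠ 3 := fun e => h9 (by rw [pow_add, e]; rfl)
    omega
  obtain ⟨a, ha, ha2⟩ := ExA.exists_a (hc ▸ h3 : 3 < Nat.card (GaloisField p m))
  refine ⟨ExA.AG (GaloisField p m), inferInstance, ?_, ?_, ExA.conj h2, ExA.not_solv h2 ha ha2⟩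
  · exact Finite.of_equiv _ SemidirectProduct.equivProd.symm
  · rw [ExA.ninv_eq h2, hc, sq, pow_add]

end CL.Pyr
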