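import Cfsg.Agent.Pyr.Defs

/-! Groups with a prime power number of involutions forming one class (S3930): no extension of a homocyclic group of
rank three by `GL₃(2)` has all its involutions in the homocyclic group. -/

set_option autoImplicit false

namespace CL.Pyr

open Subgroup Matrix

universe u

namespace NaJ

abbrev X3 : Type := Fin 3 → ZMod 2

abbrev G3 : Type := (Matrix (Fin 3) (Fin 3) (ZMod 2))ˣ

def e1 : X3 := ![1, 0, 0]
def e2 : X3 := ![0, 1, 0]
def e3 : X3 := ![0, 0, 1]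
def t1 : G3 := ⟨!![1, 0, 1; 0, 1, 0; 0, 0, 1], !![1, 0, 1; 0, 1, 0; 0, 0, 1], by decide, by decide⟩
def t2 : G3 := ⟨!![1, 0, 0; 0, 1, 1; 0, 0, 1], !![1, 0, 0; 0, 1, 1; 0, 0, 1], by decide, by decide⟩
def t4 : G3 := ⟨!![1, 1, 0; 0, 1, 0; 0, 0, 1], !![1, 1, 0; 0, 1, 0; 0, 0, 1], by decide, by decide⟩
def rr : G3 := ⟨!![0, 0, 1; 0, 1, 0; 1, 0, 1], !![1, 0, 1; 0, 1, 0; 1, 0, 0], by decide, by decide⟩
def g2 : G3 := ⟨!![0, 1, 0; 1, 0, 0; 0, 0, 1], !![0, 1, 0; 1, 0, 0; 0, 0, 1], by decide, by decide⟩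
def g3 : G3 := ⟨!![1, 0, 0; 1, 1, 0; 0, 0, 1], !![1, 0, 0; 1, 1, 0; 0, 0, 1], by decide, by decide⟩
def g4 : G3 := ⟨!![1, 0, 0; 0, 0, 1; 0, 1, 0], !![1, 0, 0; 0, 0, 1; 0, 1, 0], by decide, by decide⟩
def sg : G3 := ⟨!![0, 0, 1; 1, 0, 1; 0, 1, 0], !![1, 1, 0; 0, 0, 1; 1, 0, 0], by decide, by decide⟩

theorem trans3 : ∀ v w : X3, v ≠ 0 → w ≠ 0 → ∃ i : Fin 7, (sg ^ i.val).val *ᵥ v = w := by decide +kernel

theorem xx : ∀ v : X3, v + v = 0 := by decide

variable {M : Type u} [AddCommGroup M] {e : ℕ} {a b d : M} {k l : ℤ}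

theorem odd_smul (h : a + a = 0) (hk : Odd k) : k • a = a := by
  obtain ⟨j, rfl⟩ := hk
  rw [add_smul, mul_comm, mul_smul, two_smul, h, smul_zero, zero_add, one_smul]

theorem even_smul (h : a + a = 0) (hk : Even k) : k • a = 0 := by
  obtain ⟨j, rfl⟩ := hk
  rw [add_smul, ← smul_add, h, smul_zero]

theorem pi_two (h : ∀ x : M, 2 ^ (e + 1) • x = 0) (a : M) : 2 ^ e • a + 2 ^ e • a = 0 := by
  rw [← add_smul, ← mul_two, ← pow_succ, h]

/-- a multiple of `d` of the largest order generates the same cyclic group -/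
theorem gen_of (h : ∀ x : M, 2 ^ (e + 1) • x = 0) (e1 : a = k • d) (h0 : 2 ^ e • a ≠ 0) : ∃ l : ℤ, d = l • a := by
  have hk : Odd k := Int.not_even_iff_odd.1 fun j => h0 (by rw [e1, smul_comm, even_smul (pi_two h d) j])
  obtain ⟨u, v, huv⟩ : IsCoprime k (2 ^ (e + 1)) := (Int.isCoprime_two_right.2 hk).pow_right
  refine ⟨u, ?_⟩
  have : ((2 : ℤ) ^ (e + 1)) • d = 0 := by exact_mod_cast h d
  rw [e1, ← mul_smul, eq_sub_of_add_eq huv, sub_smul, one_smul, mul_smul, this, smul_zero, sub_zero]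

/-- independent cyclic groups -/
theorem indep (h : ∀ x : M, 2 ^ (e + 1) • x = 0) (ha : 2 ^ e • a ≠ 0) (hb : 2 ^ e • b ≠ 0) (hab : 2 ^ e • a ≠ 2 ^ e • b)
    (e1 : k • a = l • b) : k • a = 0 := by
  have key : ∀ j, j ≤ e + 1 → (2 : ℤ) ^ j ∣ k ∧ (2 : ℤ) ^ j ∣ l := fun j => by
    induction j with
    | zero => simp
    | succ j ih =>
      intro hj
      obtain ⟨⟨k', rfl⟩, l', rfl⟩ := ih (by omega)
      obtain ⟨i, rfl⟩ : ∃ i, e = i + j := ⟨e - j, by omega⟩
      have k1 : ∀ (k : ℤ) (a : M), (2 : ℤ) ^ i • ((2 : ℤ) ^ j * k) • a = k • (2 ^ (i + j) • a) := fun k a => by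
        rw [← natCast_zsmul, smul_smul, smul_smul]
        congr 1
        push_cast
        ring
      have e2 := congrArg (fun x => (2 : ℤ) ^ i • x) e1
      simp only [k1] at e2
      rw [pow_succ, mul_dvd_mul_iff_left (by positivity), mul_dvd_mul_iff_left (by positivity), ← even_iff_two_dvd,
        ← even_iff_two_dvd]
      rcases Int.even_or_odd k' with p | p <;> rcases Int.even_or_odd l' with q | q
      · exact ⟨p, q⟩
      · rw [even_smul (pi_two h a) p, odd_smul (pi_two h b) q] at e2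
        exact absurd e2.symm hb
      · rw [odd_smul (pi_two h a) p, even_smul (pi_two h b) q] at e2
        exact absurd e2 ha
      · rw [odd_smul (pi_two h a) p, odd_smul (pi_two h b) q] at e2
        exact absurd e2 hab
  obtain ⟨k', rfl⟩ := (key _ le_rfl).1
  have : ((2 : ℤ) ^ (e + 1)) • a = 0 := by exact_mod_cast h a
  rw [mul_comm, mul_smul, this, smul_zero]

/-- a homocyclic group of rank three with an action of `GL₃(2)` -/
structure Md (e : ℕ) (ι : X3 →+ M) (A : G3 → M →+ M) : Prop where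
  exp : ∀ x : M, 2 ^ (e + 1) • x = 0
  inj : Function.Injective ι
  onto : ∀ v, ∃ x : M, 2 ^ e • x = ι v
  mul : ∀ g h x, A (g * h) x = A g (A h x)
  one : ∀ x, A 1 x = x
  act : ∀ g v, A g (ι v) = ι (g.val *ᵥ v)

/-- the image of `t + ε` is cyclic -/
def Cy (e : ℕ) (ι : X3 →+ M) (A : G3 → M →+ M) (ε : ℤ) (t : G3) (v : X3) (n : M) : Prop :=
  2 ^ e • n = ι v ∧ ∀ y, ∃ k : ℤ, A t y + ε • y = k • n

namespace Md

variable {ι : X3 →+ M} {A : G3 → M →+ M} (h : Md e ι A) {ε : ℤ} {t t' : G3} {u v v' : X3} {n n' : M}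
include h

theorem ne0 (hv : v ≠ 0) : ι v ≠ 0 := fun k => hv (h.inj (k.trans (map_zero ι).symm))

theorem conj (c : Cy e ι A ε t v n) (g : G3) (e1 : g * t * g⁻¹ = t') (e2 : g.val *ᵥ v = v') :
    Cy e ι A ε t' v' (A g n) :=
  ⟨by rw [← map_nsmul, c.1, h.act, e2], fun y => (c.2 (A g⁻¹ y)).imp fun k j => by
    rw [← map_zsmul, ← j, map_add, map_zsmul, ← h.mul, ← h.mul, ← h.mul, e1, mul_inv_cancel, h.one]⟩

theorem piN (hε : Odd ε) (hn : 2 ^ e • n = ι u) : 2 ^ e • (A t n + ε • n) = ι (t.val *ᵥ u + u) := by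
  rw [smul_add, ← map_nsmul, smul_comm, hn, h.act, odd_smul (by rw [← map_add, xx, map_zero]) hε, map_add]

theorem gen (hε : Odd ε) (c : Cy e ι A ε t v n) (hu : t.val *ᵥ u + u ≠ 0) :
    ∃ (l : ℤ) (y : M), n = l • (A t y + ε • y) := by
  obtain ⟨y, hy⟩ := h.onto u
  obtain ⟨k, hk⟩ := c.2 y
  obtain ⟨l, hl⟩ := gen_of h.exp hk (by rw [h.piN hε hy]; exact h.ne0 hu)
  exact ⟨l, y, hl⟩

theorem swapN (hc : t * t' = t' * t) (y : M) :
    A t' (A t y + ε • y) + ε • (A t y + ε • y) = A t (A t' y + ε • y) + ε • (A t' y + ε • y) := by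
  simp only [map_add, map_zsmul, smul_add, ← h.mul, hc]
  abel

theorem comm (hε : Odd ε) (c : Cy e ι A ε t v n) (c' : Cy e ι A ε t' v' n') (hu : t.val *ᵥ u + u ≠ 0)
    (hc : t * t' = t' * t) (hv : v ≠ 0) (hv' : v' ≠ 0) (ne : v ≠ v') : A t' n + ε • n = 0 := by
  obtain ⟨l, y, hy⟩ := h.gen hε c hu
  obtain ⟨k, hk⟩ := c.2 (A t' y + ε • y)
  obtain ⟨k', hk'⟩ := c'.2 n
  have e1 : A t' n + ε • n = (l * k) • n := by
    rw [mul_smul, ← hk, ← h.swapN hc, smul_add, smul_comm l, ← map_zsmul, ← hy]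
  rw [e1]
  exact indep h.exp (c.1 ▸ h.ne0 hv) (c'.1 ▸ h.ne0 hv') (by rw [c.1, c'.1]; exact h.inj.ne ne) (e1.symm.trans hk')

theorem first (he : e ≠ 0) (c : Cy e ι A (-1) t1 e1 n) : False := by
  have c2 := h.conj c g2 (t' := t2) (v' := e2) (Units.ext (by decide)) (by decide)
  have c3 := h.conj c g3 (t' := t1 * t2) (v' := e1 + e2) (Units.ext (by decide)) (by decide)
  generalize A g3 n = d at c3
  have k1 := h.comm (u := e3) odd_neg_one c3 c (by decide) (Units.ext (by decide)) (by decide) (by decide) (by decide)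
  have k2 := h.comm (u := e3) odd_neg_one c3 c2 (by decide) (Units.ext (by decide)) (by decide) (by decide) (by decide)
  rw [neg_one_smul, add_neg_eq_zero] at k1 k2
  obtain ⟨l, y, hy⟩ := h.gen (u := e3) odd_neg_one c3 (by decide)
  have k3 : A (t1 * t2) d + d = 0 := by
    rw [hy, map_zsmul, ← smul_add, map_add, map_zsmul, ← h.mul, show t1 * t2 * (t1 * t2) = 1 from Units.ext (by decide),
      h.one]
    simp
  obtain ⟨i, rfl⟩ := Nat.exists_eq_succ_of_ne_zero he
  rw [h.mul, k2, k1] at k3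
  exact h.ne0 (v := e1 + e2) (by decide) (by rw [← c3.1, pow_succ, mul_smul, two_smul, k3, smul_zero])

theorem second (c : Cy e ι A 1 t1 e1 n) : A (t2 * t4) n = n := by
  have c2 := h.conj c g2 (t' := t2) (v' := e2) (Units.ext (by decide)) (by decide)
  have c3 := h.conj c g3 (t' := t1 * t2) (v' := e1 + e2) (Units.ext (by decide)) (by decide)
  have c4 := h.conj c g4 (t' := t4) (v' := e1) (Units.ext (by decide)) (by decide)
  generalize A g2 n = n2 at c2
  generalize A g3 n = n3 at c3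
  generalize A g4 n = n4 at c4
  have k12 := h.comm (u := e3) odd_one c c2 (by decide) (Units.ext (by decide)) (by decide) (by decide) (by decide)
  have k21 := h.comm (u := e3) odd_one c2 c (by decide) (Units.ext (by decide)) (by decide) (by decide) (by decide)
  have k31 := h.comm (u := e3) odd_one c3 c (by decide) (Units.ext (by decide)) (by decide) (by decide) (by decide)
  obtain ⟨l, y, hy⟩ := h.gen (u := e3) odd_one c2 (by decide)
  obtain ⟨k, hk⟩ := c3.2 (A t4 y)
  have a1 : A t4 n2 = (l * k) • n3 := by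
    rw [mul_smul, ← hk, hy, map_zsmul, map_add, map_zsmul, ← h.mul, ← h.mul,
      show t4 * t2 = t1 * t2 * t4 from Units.ext (by decide)]
  obtain ⟨k', hk'⟩ := c4.2 n2
  obtain ⟨l', hl'⟩ := gen_of h.exp hk' (by rw [h.piN odd_one c2.1]; exact h.ne0 (by decide))
  rw [one_smul, add_eq_zero_iff_eq_neg] at k12 k21 k31
  have a2 : A t1 n4 = -n4 := by
    rw [hl', a1, one_smul, map_zsmul, map_add, map_zsmul, k21, k31, smul_neg, ← neg_add, smul_neg]
  obtain ⟨j, z, hz⟩ := h.gen (u := e3) odd_one c (by decide)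
  obtain ⟨i, hi⟩ := c4.2 z
  have a3 := h.swapN (ε := 1) (t := t1) (t' := t4) (Units.ext (by decide)) z
  rw [hi, map_zsmul (A t1), a2, one_smul, one_smul, one_smul, smul_neg, neg_add_cancel,
    add_eq_zero_iff_eq_neg] at a3
  have a4 : A t4 n = -n := by rw [hz, map_zsmul, one_smul, a3, smul_neg]
  rw [h.mul, a4, map_neg, k12, neg_neg]

theorem main [Finite M] (ab : Ab1.{u}) (hV : ∀ y : M, y + y = 0 → ∃ v, ι v = y) {m : M} (hm : A (t2 * t4) m = m)
    (h0 : ∀ y, m + (y + A t1 y) ≠ 0) : False := by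
  have ii : ∀ v, ι v + ι v = 0 := fun v => by rw [← map_add, xx, map_zero]
  have r1 : ∀ {g g' : G3}, g = g' → ∀ x, A g x = A g' x := fun k _ => by rw [k]
  rcases ab M e (A t1) (A rr) (ι e1) (ι e3) (ι e2) m h.exp
    ((Nat.card_congr (Equiv.ofBijective (fun v => (⟨ι v, ii v⟩ : {x : M // x + x = 0}))
      ⟨fun _ _ k => h.inj (congrArg Subtype.val k), fun y => (hV y y.2).imp fun _ k => Subtype.ext k⟩)).symm.trans
        (by simp)) (ii _) (ii _) (ii _)
    (fun a b c k => by
      have k1 : a • e1 + b • e3 + c • e2 = 0 := h.inj (by simpa only [map_add, map_nsmul, map_zero] using k)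
      simp only [← ZMod.natCast_eq_zero_iff_even]
      exact ⟨by simpa [e1, e2, e3] using congrFun k1 0, by simpa [e1, e2, e3] using congrFun k1 2,
        by simpa [e1, e2, e3] using congrFun k1 1⟩)
    (fun y hy => by obtain ⟨v, rfl⟩ := hV y hy; exact h.onto v)
    (fun x => by rw [← h.mul, show t1 * t1 = 1 from Units.ext (by decide), h.one])
    (fun x => by rw [← h.mul, ← h.mul, show rr * rr * rr = 1 from Units.ext (by decide), h.one])
    (fun x => by rw [← h.mul, ← h.mul, ← h.mul, show t1 * rr * t1 = rr * rr from Units.ext (by decide)])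
    (by rw [h.act]; exact congrArg ι (by decide)) (by rw [h.act, ← map_add]; exact congrArg ι (by decide))
    (by rw [h.act]; exact congrArg ι (by decide)) (by rw [h.act]; exact congrArg ι (by decide))
    (by rw [h.act, ← map_add]; exact congrArg ι (by decide)) (by rw [h.act]; exact congrArg ι (by decide))
    (by rw [show t1 = t2 * t4 * (t2 * t4) from Units.ext (by decide), h.mul, hm, hm]) h0 with
    ⟨he, d, d1, d2⟩ | ⟨n, n1, n2, y, hy⟩
  · exact h.first he ⟨d1, fun y => by rw [neg_one_smul, ← sub_eq_add_neg]; exact d2 y⟩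
  · have k := h.second ⟨n1, fun y => by rw [one_smul, add_comm]; exact n2 y⟩
    obtain ⟨j, hj⟩ := n2 y
    rw [hy, hj, map_add, map_zsmul, k, add_left_inj, h.act] at hm
    exact absurd (h.inj hm) (by decide)

end Md

/-- coordinates on an elementary abelian group of order eight -/
theorem coords {V : Type u} [Group V] (h2 : ∀ x : V, x * x = 1) (h8 : Nat.card V = 8) :
    Nonempty (V ≃* Multiplicative X3) := by
  let : CommGroup V := { (inferInstance : Group V) with
    mul_comm := fun a b => by rw [← inv_eq_of_mul_eq_one_right (h2 (a * b)), _root_.mul_inv_rev,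
      inv_eq_of_mul_eq_one_right (h2 a), inv_eq_of_mul_eq_one_right (h2 b)] }
  have : Finite V := Nat.finite_of_card_ne_zero (by omega)
  let : Module (ZMod 2) (Additive V) := AddCommGroup.zmodModule fun x => by
    rw [two_smul]; exact h2 x.toMul
  have k : Module.finrank (ZMod 2) (Additive V) = 3 := by
    have := Module.natCard_eq_pow_finrank (K := ZMod 2) (V := Additive V)
    rw [show Nat.card (Additive V) = 8 from h8, Nat.card_zmod] at this
    exact (Nat.pow_right_injective le_rfl (show 2 ^ 3 = 2 ^ _ from this)).symm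
  exact ⟨AddEquiv.toMultiplicativeRight (LinearEquiv.ofFinrankEq (R := ZMod 2) (Additive V) X3 (by simp [k])).toAddEquiv⟩

end NaJ

open NaJ in
theorem naS (ab : Ab1.{u}) : NaS.{u} := fun H _ _ V om full c8 pg cm => by
  obtain ⟨ψ⟩ := coords (V := V) (fun x => Subtype.ext ((om x).1 x.2)) c8
  have Vn : V.Normal := ⟨fun x hx g => (om _).2 (by rw [conj_mul, (om x).1 hx]; simp)⟩
  set R := centralizer (V : Set H) with hR
  have VR : V ≤ R := fun x hx y hy => congrArg Subtype.val (show (⟨y, hy⟩ * ⟨x, hx⟩ : V) = ⟨x, hx⟩ * ⟨y, hy⟩ from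
    ψ.injective (by rw [map_mul, map_mul, mul_comm]))
  let : CommGroup R := { (inferInstance : Group R) with mul_comm := fun a b => Subtype.ext (cm a a.2 b b.2) }
  let act : H → Additive R →+ Additive R := fun g => MonoidHom.toAdditive (MulAut.conjNormal g : MulAut R).toMonoidHom
  have av : ∀ g (x : Additive R), ((act g x).toMul : H) = g * x.toMul * g⁻¹ := fun _ _ => rfl
  have ex : ∀ {x y : Additive R}, (x.toMul : H) = y.toMul → x = y := fun k => Additive.toMul.injective (Subtype.ext k)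
  have am : ∀ g g' x, act (g * g') x = act g (act g' x) := fun g g' x => ex (by simp only [av]; group)
  have aR : ∀ g ∈ R, ∀ x, act g x = x := fun g hg x => ex (by rw [av, cm g hg _ x.toMul.2, mul_inv_cancel_right])
  let ι : X3 →+ Additive R := MonoidHom.toAdditiveRight ((inclusion VR).comp ψ.symm.toMonoidHom)
  have iv : ∀ v, ((ι v).toMul : H) = ψ.symm (.ofAdd v) := fun _ => rfl
  have inj : Function.Injective ι := fun a b k =>
    ψ.symm.injective (Subtype.ext ((iv a).symm.trans ((congrArg (fun x : Additive R => (x.toMul : H)) k).trans (iv b))))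
  have mR : ∀ g, (∀ v, act g (ι v) = ι v) → g ∈ R := fun g k y hy => by
    have := congrArg (fun x : Additive R => (x.toMul : H)) (k (ψ ⟨y, hy⟩).toAdd)
    simp only [av, iv, ofAdd_toAdd, MulEquiv.symm_apply_apply] at this
    exact (mul_inv_eq_iff_eq_mul.1 this).symm
  have hV : ∀ y : Additive R, y + y = 0 → ∃ v, ι v = y := fun y hy =>
    ⟨(ψ ⟨y.toMul, (om _).2 (congrArg (fun x : Additive R => (x.toMul : H)) hy)⟩).toAdd, ex (by simp [iv])⟩
  have lift : ∀ P : G3, ∃ g, ∀ v, act g (ι v) = ι (P.val *ᵥ v) := fun P => by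
    obtain ⟨g, hg⟩ := full (ψ.trans ((AddEquiv.toMultiplicative (Matrix.GeneralLinearGroup.toLin P).toLinearEquiv.toAddEquiv).trans
      ψ.symm))
    exact ⟨g, fun v => ex (by rw [av, iv, hg, iv]; simp)⟩
  choose s hs using lift
  have ext : ∀ g g', (∀ v, act g (ι v) = act g' (ι v)) → ∀ x, act g x = act g' x := fun g g' k x => by
    rw [← aR _ (mR (g⁻¹ * g') fun v => by rw [am, ← k, ← am, aR _ (by simp)]) x, ← am, mul_inv_cancel_left, aR _
      (mR (g⁻¹ * g') fun v => by rw [am, ← k, ← am, aR _ (by simp)])]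
  obtain ⟨N, hN⟩ := pg.exists_card_eq
  have hex : ∃ N, ∀ x : Additive R, 2 ^ N • x = 0 := ⟨N, fun x => by rw [← hN]; exact card_nsmul_eq_zero'⟩
  classical
  obtain ⟨e, he⟩ : ∃ e, Nat.find hex = e + 1 := Nat.exists_eq_succ_of_ne_zero fun k =>
    absurd (inj (((one_smul _ _).symm.trans (k ▸ Nat.find_spec hex (ι e1) :)).trans (map_zero ι).symm)) (by decide)
  have h1 : ∀ x : Additive R, 2 ^ (e + 1) • x = 0 := he ▸ Nat.find_spec hex
  obtain ⟨x0, h0⟩ := not_forall.1 (Nat.find_min hex (m := e) (by omega))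
  obtain ⟨v0, hv0⟩ := hV _ (pi_two h1 x0)
  have md : Md e ι fun P => act (s P) := ⟨h1, inj, fun v => by
      by_cases k : v = 0
      · exact ⟨0, by simp [k]⟩
      · obtain ⟨i, hi⟩ := trans3 v0 v (fun j => h0 (by rw [← hv0, j, map_zero])) k
        exact ⟨act (s (sg ^ i.val)) x0, by rw [← map_nsmul, ← hv0, hs, hi]⟩,
    fun P Q x => (ext _ (s P * s Q) (fun v => by rw [am, hs, hs, hs, Units.val_mul, mulVec_mulVec]) x).trans (am _ _ _),
    fun x => aR _ (mR _ fun v => by rw [hs, Units.val_one, one_mulVec]) x, hs⟩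
  have a2 : ∀ x, act (s (t2 * t4) * s (t2 * t4)) x = act (s t1) x := fun x =>
    (am _ _ _).trans ((md.mul _ _ x).symm.trans (by rw [show t2 * t4 * (t2 * t4) = t1 from Units.ext (by decide)]))
  generalize hg : s (t2 * t4) = g at a2
  have m4 : g * g * (g * g) ∈ R := mR _ fun v => by
    rw [am, a2, a2, hs, hs, mulVec_mulVec, show t1.val * t1.val = 1 by decide, one_mulVec]
  refine md.main ab hV (m := .ofMul ⟨_, m4⟩) (ex (by rw [av, hg]; simp only [toMul_ofMul]; group)) fun y k => ?_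
  have k1 : (y.toMul : H) * (g * g) ∈ R := VR ((om _).2 (by
    rw [add_comm, ← a2] at k
    have k2 : (y.toMul : H) * (g * g * y.toMul * (g * g)⁻¹) * (g * g * (g * g)) = 1 :=
      congrArg (fun x : Additive R => (x.toMul : H)) k
    rw [← k2]
    simp only [mul_assoc, _root_.mul_inv_rev, inv_mul_cancel_left]))
  have k3 := aR _ ((mul_mem_cancel_left y.toMul.2).1 k1) (ι e3)
  rw [a2, hs] at k3
  exact absurd (inj k3) (by decide)

end CL.Pyr
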