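import Cfsg.Agent.Pyr.Defs
import Cfsg.Agent.S3776

/-! The centraliser of the eight-group is abelian when the full linear group is induced on it. -/

set_option autoImplicit false

namespace CL.Pyr

open Subgroup
open scoped commutatorElement

universe u

theorem exists_iota (A : Type u) [Group A] [Finite A] (h2 : ∀ x : A, x * x = 1) (h8 : Nat.card A = 8) :
    Nonempty (Additive A ≃+ (Fin 3 → ZMod 2)) := by
  have hc : ∀ x y : A, x * y = y * x := fun x y => by
    have e : ∀ z : A, z⁻¹ = z := fun z => inv_eq_of_mul_eq_one_right (h2 z)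
    rw [← e (x * y), mul_inv_rev, e, e]
  let _ : CommGroup A := { (inferInstance : Group A) with mul_comm := hc }
  let _ : Module (ZMod 2) (Additive A) := AddCommGroup.zmodModule fun x => by
    rw [two_nsmul]; exact h2 x.toMul
  have : Module.Finite (ZMod 2) (Additive A) := Module.Finite.of_finite
  have h3 : Module.finrank (ZMod 2) (Additive A) = 3 := by
    have e := Module.natCard_eq_pow_finrank (K := ZMod 2) (V := Additive A)
    rw [Nat.card_zmod, show Nat.card (Additive A) = 2 ^ 3 from h8] at e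
    exact (Nat.pow_right_injective le_rfl e).symm
  exact ⟨(Module.finBasisOfFinrankEq (ZMod 2) (Additive A) h3).equivFun.toAddEquiv⟩

theorem trans_f3 (x y : Fin 3 → ZMod 2) (hx : x ≠ 0) (hy : y ≠ 0) :
    ∃ g : (Fin 3 → ZMod 2) ≃+ (Fin 3 → ZMod 2), g x = y := by
  obtain ⟨c, h1, h2⟩ : ∃ c : Fin 3 → ZMod 2, c ⬝ᵥ x = 1 ∧ c ⬝ᵥ y = 1 := by
    revert x y; decide
  have h0 : c ⬝ᵥ (x + y) = 0 := by rw [dotProduct_add, h1, h2]; rfl
  have two : ∀ z : Fin 3 → ZMod 2, z + z = 0 := by decide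
  have inv : ∀ z : Fin 3 → ZMod 2, (z + (c ⬝ᵥ z) • (x + y)) + (c ⬝ᵥ (z + (c ⬝ᵥ z) • (x + y))) • (x + y) = z := by
    intro z
    rw [dotProduct_add, dotProduct_smul, h0, smul_zero, add_zero, add_assoc, two, add_zero]
  refine ⟨⟨⟨fun z => z + (c ⬝ᵥ z) • (x + y), fun z => z + (c ⬝ᵥ z) • (x + y), inv, inv⟩, fun z w => ?_⟩, ?_⟩
  · show z + w + (c ⬝ᵥ (z + w)) • (x + y) = z + (c ⬝ᵥ z) • (x + y) + (w + (c ⬝ᵥ w) • (x + y))
    rw [dotProduct_add, add_smul]; abel
  · show x + (c ⬝ᵥ x) • (x + y) = y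
    rw [h1, one_smul, ← add_assoc, two, zero_add]

/-- Coordinates on `V` together with lifts of the linear automorphisms. -/
theorem exists_coord {H : Type u} [Group H] [Finite H] {V : Subgroup H} (hO : Om V) (hF : Full V)
    (h8 : Nat.card V = 8) : ∃ f : H → Fin 3 → ZMod 2, (∀ v ∈ V, ∀ w ∈ V, f (v * w) = f v + f w) ∧
      (∀ v ∈ V, ∀ w ∈ V, f v = f w → v = w) ∧ (∀ z, ∃ v ∈ V, f v = z) ∧
      ∀ g : (Fin 3 → ZMod 2) ≃+ (Fin 3 → ZMod 2), ∃ h : H, ∀ v ∈ V, f (h * v * h⁻¹) = g (f v) := by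
  classical
  obtain ⟨ι⟩ := exists_iota V (fun x => Subtype.ext ((hO x).1 x.2)) h8
  let f : H → Fin 3 → ZMod 2 := fun v => if h : v ∈ V then ι (Additive.ofMul ⟨v, h⟩) else 0
  have hf : ∀ v : V, f v = ι (Additive.ofMul v) := fun v => dif_pos v.2
  refine ⟨f, fun v hv w hw => ?_, fun v hv w hw e => ?_, fun z => ?_, fun g => ?_⟩
  · rw [hf ⟨v, hv⟩, hf ⟨w, hw⟩, ← map_add]
    exact hf (⟨v, hv⟩ * ⟨w, hw⟩)
  · rw [hf ⟨v, hv⟩, hf ⟨w, hw⟩] at e
    exact congrArg Subtype.val (Additive.ofMul.injective (ι.injective e))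
  · exact ⟨(ι.symm z).toMul, (ι.symm z).toMul.2, by rw [hf]; simp⟩
  · obtain ⟨h, hh⟩ := hF (AddEquiv.toMultiplicativeRight ((ι.trans g).trans ι.symm) : V ≃* V)
    refine ⟨h, fun v hv => ?_⟩
    have e := hh ⟨v, hv⟩
    rw [show h * v * h⁻¹ = _ from e, hf, hf ⟨v, hv⟩]
    exact ι.apply_symm_apply _

theorem nbS (t : TS.{u}) (q : QS.{u}) : NbS.{u} := by
  intro H _ _ V hO hF h8 hR
  classical
  obtain ⟨f, fm, fi, fs, fg⟩ := exists_coord hO hF h8
  have f1 : f 1 = 0 := by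
    have := fm 1 (one_mem _) 1 (one_mem _)
    rw [mul_one] at this
    exact left_eq_add.1 this
  have hVn : V.Normal := ⟨fun v hv g => (hO _).2 (by
    have := (hO v).1 hv
    calc g * v * g⁻¹ * (g * v * g⁻¹) = g * (v * v) * g⁻¹ := by group
      _ = 1 := by rw [this]; group)⟩
  set R := centralizer (V : Set H) with hRd
  have hRn : R.Normal := normal_centralizer
  have hVR : ∀ r ∈ R, ∀ v ∈ V, v * r = r * v := fun r hr v hv => hr v hv
  by_contra hna
  have hna' : ¬ IsMulCommutative R := fun h => hna fun x hx y hy =>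
    congrArg Subtype.val (h.is_comm.comm (⟨x, hx⟩ : R) ⟨y, hy⟩)
  have hVle : V ≤ R := fun x hx y hy => by
    have e : ∀ z ∈ V, z⁻¹ = z := fun z hz => inv_eq_of_mul_eq_one_right ((hO z).1 hz)
    have hy' : y ∈ V := hy
    rw [← e (y * x) (mul_mem hy' hx), mul_inv_rev, e x hx, e y hy']
  have hne : ∀ v ∈ V, v ≠ 1 → f v ≠ 0 := fun v hv h1 e => h1 (fi v hv 1 (one_mem _) (e.trans f1.symm))
  obtain ⟨σ, -, hσ⟩ := t H V ⊤ 3 hO h8 (by norm_num) fun x hx y hy hx1 hy1 => by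
    obtain ⟨g, hg⟩ := trans_f3 _ _ (hne x hx hx1) (hne y hy hy1)
    obtain ⟨h, hh⟩ := fg g
    exact ⟨h, mem_top _, fi _ (hVn.conj_mem _ hx h) _ hy ((hh x hx).trans hg)⟩
  have sqV : ∀ x : R, x ^ 2 = 1 ↔ (x : H) ∈ V := fun x => by
    rw [hO, pow_two, Subtype.ext_iff]; rfl
  obtain ⟨hc1, hc2, hc3⟩ := Cfsg.Agent.S3776.result (G := R) hR hna' (by
    obtain ⟨v, hv, ev⟩ := fs ![1, 0, 0]
    obtain ⟨w, hw, ew⟩ := fs ![0, 1, 0]
    refine ⟨⟨v, hVle hv⟩, ⟨w, hVle hw⟩, fun h => ?_, fun h => ?_, (sqV _).2 hv, fun h => ?_, (sqV _).2 hw⟩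
    · have h' : v = w := congrArg Subtype.val h
      rw [h', ew] at ev; revert ev; decide
    · have h' : v = 1 := congrArg Subtype.val h
      rw [h', f1] at ev; revert ev; decide
    · have h' : w = 1 := congrArg Subtype.val h
      rw [h', f1] at ew; revert ew; decide) (by
    refine ⟨zpowers (MulAut.conjNormal σ : MulAut R), Group.isSolvable_of_comm fun a b =>
      (inferInstance : IsMulCommutative (zpowers (MulAut.conjNormal σ : MulAut R))).is_comm.comm a b,
      fun x y hx1 hx hy1 hy => ?_⟩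
    obtain ⟨i, hi⟩ := hσ x ((sqV _).1 hx) y ((sqV _).1 hy) (fun h => hx1 (Subtype.ext h))
      fun h => hy1 (Subtype.ext h)
    refine ⟨MulAut.conjNormal σ ^ i, npow_mem_zpowers _ _, Subtype.ext ?_⟩
    rw [← map_pow, MulAut.conjNormal_apply, hi])
  -- commutators and squares lie in `V`
  have hk : ∀ x ∈ R, ∀ y ∈ R, x⁻¹ * y * x * y⁻¹ ∈ V := fun x hx y hy => by
    have h1 : (⁅(⟨x, hx⟩ : R)⁻¹, (⟨y, hy⟩ : R)⁆ : R) ∈ commutator R :=
      commutator_mem_commutator (mem_top _) (mem_top _)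
    rw [hc1, hc2, hc3, sqV] at h1
    simpa [commutatorElement_def] using h1
  have hsq : ∀ x ∈ R, x * x ∈ V := fun x hx => by
    have h1 : (⟨x, hx⟩ * ⟨x, hx⟩ : R) ∈ center R := mem_center_iff.2 fun y => Subtype.ext (by
      have hkv := hk x hx y y.2
      have e1 := (hO _).1 hkv
      have e2 := hVR x hx _ hkv
      show (y : H) * (x * x) = x * x * y
      calc (y : H) * (x * x) = x * ((x⁻¹ * y * x * (y : H)⁻¹) * x) * (x⁻¹ * y * x * (y : H)⁻¹) * y := by group
        _ = x * x * ((x⁻¹ * y * x * (y : H)⁻¹) * (x⁻¹ * y * x * (y : H)⁻¹)) * y := by rw [e2]; group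
        _ = x * x * y := by rw [e1, mul_one])
    rw [hc3, sqV] at h1
    exact h1
  let N : Subgroup R := V.subgroupOf R
  have hNn : N.Normal := hVn.subgroupOf R
  have hmk : ∀ x y : R, (x : R ⧸ N) = y ↔ (x : H)⁻¹ * y ∈ V := fun x y => QuotientGroup.eq
  have hcomm : ∀ a b : R ⧸ N, a * b = b * a := fun a b => by
    induction a using QuotientGroup.induction_on with | H x => ?_
    induction b using QuotientGroup.induction_on with | H y => ?_
    rw [← QuotientGroup.mk_mul, ← QuotientGroup.mk_mul, hmk]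
    have := hk y y.2 x⁻¹ (inv_mem x.2)
    simpa [mul_assoc] using this
  let _ : CommGroup (R ⧸ N) := { (inferInstance : Group (R ⧸ N)) with mul_comm := hcomm }
  let c : H → (R ⧸ N →* R ⧸ N) := fun h => QuotientGroup.map N N (MulAut.conjNormal h : MulAut R).toMonoidHom
    fun x hx => hVn.conj_mem _ hx h
  have hc : ∀ (h : H) (x : R), c h (x : R ⧸ N) = ((MulAut.conjNormal h x : R) : R ⧸ N) := fun _ _ => rfl
  choose l hl using fg
  have hsame : ∀ h k : H, (∀ v ∈ V, f (h * v * h⁻¹) = f (k * v * k⁻¹)) → ∀ w, c h w = c k w := by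
    intro h k hhk w
    induction w using QuotientGroup.induction_on with | H x => ?_
    have hr : k⁻¹ * h ∈ R := fun v hv => by
      have hv' : v ∈ V := hv
      have e := fi _ (hVn.conj_mem _ hv' h) _ (hVn.conj_mem _ hv' k) (hhk v hv')
      calc v * (k⁻¹ * h) = k⁻¹ * (k * v * k⁻¹) * h := by group
        _ = k⁻¹ * h * v := by rw [← e]; group
    rw [hc, hc, hmk, MulAut.conjNormal_apply, MulAut.conjNormal_apply]
    have h1 := hVn.conj_mem _ (hk _ x.2 _ (inv_mem hr)) h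
    convert h1 using 1
    group
  let s : Additive (R ⧸ N) → Fin 3 → ZMod 2 := fun w => f ((w.toMul.out : H) * w.toMul.out)
  have hs : ∀ x : R, s (Additive.ofMul (x : R ⧸ N)) = f (x * x) := fun x => by
    have h1 := (hmk x _).1 (QuotientGroup.out_eq' (x : R ⧸ N)).symm
    show f (((x : R ⧸ N).out : H) * (x : R ⧸ N).out) = _
    generalize ((x : R ⧸ N).out : H) = y at h1
    obtain ⟨n, rfl⟩ : ∃ n, y = x * n := ⟨(x : H)⁻¹ * y, by group⟩
    rw [inv_mul_cancel_left] at h1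
    have e : (x : H) * n * (x * n) = x * x := by
      calc (x : H) * n * (x * n) = x * (n * x) * n := by group
        _ = x * x * (n * n) := by rw [hVR x x.2 n h1]; group
        _ = x * x := by rw [(hO n).1 h1, mul_one]
    rw [e]
  have two : ∀ z : Fin 3 → ZMod 2, z + z = 0 := by decide
  let β : Additive (R ⧸ N) → Additive (R ⧸ N) → Fin 3 → ZMod 2 := fun x y => s (x + y) + s x + s y
  have hβ : ∀ x y : R, β (Additive.ofMul (x : R ⧸ N)) (Additive.ofMul (y : R ⧸ N)) =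
      f ((x : H)⁻¹ * y * x * (y : H)⁻¹) := fun x y => by
    show s (Additive.ofMul ((x * y : R) : R ⧸ N)) + _ + _ = _
    rw [hs, hs, hs]
    have e : ((x * y : R) : H) * (x * y : R) = x * x * ((x : H)⁻¹ * y * x * (y : H)⁻¹) * (y * y) := by
      rw [coe_mul]; group
    rw [e, fm _ (mul_mem (hsq _ x.2) (hk _ x.2 _ y.2)) _ (hsq _ y.2), fm _ (hsq _ x.2) _ (hk _ x.2 _ y.2)]
    have e' : ∀ a b c : Fin 3 → ZMod 2, a + b + c + a + c = b + (a + a) + (c + c) := fun a b c => by abel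
    rw [e', two, two, add_zero, add_zero]
  have ind : ∀ w : Additive (R ⧸ N), ∃ x : R, w = Additive.ofMul (x : R ⧸ N) := fun w =>
    ⟨w.toMul.out, by rw [QuotientGroup.out_eq']; rfl⟩
  have hβs : ∀ x y, β x y = β y x := fun x y => by
    show s (x + y) + s x + s y = s (y + x) + s y + s x
    rw [add_comm y x]; abel
  have hβa : ∀ x y z, β x (y + z) = β x y + β x z := fun x y z => by
    obtain ⟨x, rfl⟩ := ind x
    obtain ⟨y, rfl⟩ := ind y
    obtain ⟨z, rfl⟩ := ind z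
    show β _ (Additive.ofMul ((y * z : R) : R ⧸ N)) = _
    rw [hβ, hβ, hβ, ← fm _ (hk _ x.2 _ y.2) _ (hk _ x.2 _ z.2), coe_mul]
    congr 1
    calc (x : H)⁻¹ * (y * z) * x * ((y : H) * z)⁻¹ = (x : H)⁻¹ * y * x * (((x : H)⁻¹ * z * x * (z : H)⁻¹) * (y : H)⁻¹) := by
          group
      _ = _ := by rw [hVR _ (inv_mem y.2) _ (hk _ x.2 _ z.2)]; group
  let B : Additive (R ⧸ N) →+ Additive (R ⧸ N) →+ (Fin 3 → ZMod 2) :=
    AddMonoidHom.mk' (fun x => AddMonoidHom.mk' (β x) (hβa x)) fun x y => by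
      refine AddMonoidHom.ext fun z => ?_
      show β (x + y) z = β x z + β y z
      rw [hβs, hβa, hβs z x, hβs z y]
  have key := q (Additive (R ⧸ N)) (fun g => MonoidHom.toAdditive (c (l g))) s B (fun x => ?_) (fun g h x => ?_)
    (fun x => ?_) (fun x y => ?_) (fun x hx => ?_) (fun g x => ?_)
  · refine hna fun x hx y hy => ?_
    have e : f (x⁻¹ * y * x * y⁻¹) = 0 := (hβ ⟨x, hx⟩ ⟨y, hy⟩).symm.trans (key _ _)
    have e' := fi _ (hk x hx y hy) 1 (one_mem _) (e.trans f1.symm)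
    calc x * y = x * (x⁻¹ * y * x * y⁻¹) * y := by rw [e', mul_one]
      _ = y * x := by group
  · obtain ⟨x, rfl⟩ := ind x
    show Additive.ofMul (c (l _) (x : R ⧸ N)) = _
    rw [hsame _ 1 fun v hv => by rw [hl _ v hv]; simp, hc, map_one]
    rfl
  · obtain ⟨x, rfl⟩ := ind x
    show Additive.ofMul (c (l _) (x : R ⧸ N)) = Additive.ofMul (c (l h) (c (l g) (x : R ⧸ N)))
    rw [hsame _ (l h * l g) fun v hv => by
      rw [hl _ v hv, AddEquiv.trans_apply, ← hl g v hv, ← hl h _ (hVn.conj_mem _ hv _)]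
      congr 1
      group, hc, hc, hc, map_mul]
    rfl
  · obtain ⟨x, rfl⟩ := ind x
    show Additive.ofMul ((x * x : R) : R ⧸ N) = Additive.ofMul ((1 : R) : R ⧸ N)
    rw [eq_comm, Additive.ofMul.apply_eq_iff_eq, hmk]
    simpa using hsq _ x.2
  · show s (x + y) = s x + s y + (s (x + y) + s x + s y)
    have e' : ∀ a b c : Fin 3 → ZMod 2, a + b + (c + a + b) = c + (a + a) + (b + b) := fun a b c => by abel
    rw [e', two, two, add_zero, add_zero]
  · obtain ⟨x, rfl⟩ := ind x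
    rw [hs] at hx
    have e' := fi _ (hsq _ x.2) 1 (one_mem _) (hx.trans f1.symm)
    show Additive.ofMul (x : R ⧸ N) = Additive.ofMul ((1 : R) : R ⧸ N)
    rw [eq_comm, Additive.ofMul.apply_eq_iff_eq, hmk]
    simpa using (hO _).2 e'
  · obtain ⟨x, rfl⟩ := ind x
    show s (Additive.ofMul (c (l g) (x : R ⧸ N))) = _
    rw [hc, hs, hs, ← hl g _ (hsq _ x.2), MulAut.conjNormal_apply]
    congr 1
    group

end CL.Pyr
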