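import Cfsg.Agent.Pyr.Defs

/-! An anisotropic quadratic map to a four-group commuting with `S₃` lives on at most four elements. -/

set_option autoImplicit false

namespace CL.Pyr

universe u

theorem q2 : Q2.{u} := by
  intro W V _ _ _ s B τ ρ τ' ρ' v W₀ hW hV hs han hτ _ hτρ hsτ hsρ h0τ h0ρ hval hv hv1 hsum ht1 ht2
  classical
  have cV : ∀ x y : V, x + y = 0 → x = y := fun x y h => by
    have : x + y + y = 0 + y := by rw [h]
    rwa [add_assoc, hV, add_zero, zero_add] at this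
  have cW : ∀ x y : W, x + y = 0 → x = y := fun x y h => by
    have : x + y + y = 0 + y := by rw [h]
    rwa [add_assoc, hW, add_zero, zero_add] at this
  have hB : ∀ x y, B x y = s (x + y) + s x + s y := fun x y => by
    rw [hs]
    have e : s x + s y + B x y + s x + s y = B x y + (s x + s x) + (s y + s y) := by abel
    rw [e, hV, hV, add_zero, add_zero]
  have hsym : ∀ x y, B x y = B y x := fun x y => by
    rw [hB, hB y x, add_comm y x]; abel
  have hBρ : ∀ x y, B (ρ x) (ρ y) = ρ' (B x y) := fun x y => by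
    rw [hB, hB x y, ← map_add, hsρ, hsρ, hsρ, map_add, map_add]
  set v1 := ρ' v with hv1d
  set v2 := ρ' v1 with hv2d
  have e01 : v + v1 = v2 := cV _ _ hsum
  have e12 : v1 + v2 = v := cV _ _ (by rw [← hsum]; abel)
  have e02 : v + v2 = v1 := cV _ _ (by rw [← hsum]; abel)
  have h20 : ρ' v2 = v := by
    have := congrArg ρ' hsum
    rw [map_add, map_add, map_zero, ← hv1d, ← hv2d, e12] at this
    exact (cV _ _ this).symm
  have n12 : v1 ≠ v2 := fun h => hv (by rw [← e12, h, hV])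
  have n1 : v1 ≠ 0 := fun h => n12 (by rw [hv2d, h, map_zero])
  have n2 : v2 ≠ 0 := fun h => hv (by rw [← h20, h, map_zero])
  have n02 : v2 ≠ v := fun h => n1 (by rw [← e02, h, hV])
  have h1 : ∀ x ∈ W₀, x + ρ x = ρ (ρ x) := fun x hx => by
    have hy : x + ρ x + ρ (ρ x) ∈ W₀ := add_mem (add_mem hx (h0ρ _ hx)) (h0ρ _ (h0ρ _ hx))
    have hf : ρ (x + ρ x + ρ (ρ x)) = x + ρ x + ρ (ρ x) := by
      rw [map_add, map_add, ‹∀ x, ρ (ρ (ρ x)) = x›]; abel
    have e := hsρ (x + ρ x + ρ (ρ x))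
    rw [hf] at e
    refine cW _ _ (han _ ?_)
    rcases hval _ hy with h | h | h | h
    · exact h
    · rw [h] at e; exact absurd e.symm hv1
    · rw [h] at e; exact absurd e n12
    · rw [h, h20] at e; exact absurd e n02
  have h2 : ∀ c ∈ W₀, τ c = c → c ≠ 0 → s c = v := fun c hc hτc hc0 => by
    have e := hsτ c
    rw [hτc] at e
    rcases hval _ hc with h | h | h | h
    · exact absurd (han _ h) hc0
    · exact h
    · rw [h, ht1] at e; exact absurd e n12
    · rw [h, ht2] at e; exact absurd e.symm n12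
  have h2' : ∀ c ∈ W₀, τ c = c → c ≠ 0 → B c (ρ c) = 0 := fun c hc hτc hc0 => by
    rw [hB, h1 c hc, hsρ, hsρ, h2 c hc hτc hc0, add_assoc, e01, hV]
  have hτρρ : ∀ x, τ (ρ (ρ x)) = ρ (τ x) := fun x => by rw [← hτρ, hτ]
  have h3 : ∀ a ∈ W₀, ∀ b ∈ W₀, τ a = a → τ b = b → a ≠ 0 → b ≠ 0 → a = b := by
    intro a ha b hb hτa hτb ha0 hb0
    by_contra hne
    have hab0 : a + b ≠ 0 := fun h => hne (cW _ _ h)
    have hτab : τ (a + b) = a + b := by rw [map_add, hτa, hτb]
    have sa := h2 a ha hτa ha0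
    have sb := h2 b hb hτb hb0
    have hab : B a b = v := by
      rw [hB, h2 _ (add_mem ha hb) hτab hab0, sa, sb, hV, zero_add]
    have hu : B a (ρ b) = B (ρ a) b := by
      have e := h2' _ (add_mem ha hb) hτab hab0
      simp only [map_add, AddMonoidHom.add_apply] at e
      rw [h2' a ha hτa ha0, h2' b hb hτb hb0, zero_add, add_zero, add_comm] at e
      rw [hsym (ρ a) b]
      exact cV _ _ e
    have hρu : ρ' (B a (ρ b)) = B a (ρ b) + v1 := by
      rw [← hBρ, ← h1 b hb, map_add, ← hu, hBρ, hab]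
    have hu' : B a (ρ b) = s (a + ρ b) + v2 := by
      rw [hB, sa, hsρ, sb, add_assoc, e01]
    have huv : B a (ρ b) = v2 := by
      rcases hval _ (add_mem ha (h0ρ _ hb)) with h | h | h | h
      · rw [hu', h, zero_add]
      · rw [h, e02] at hu'
        rw [hu', hV] at hρu
        exact absurd hρu n2
      · rw [h, e12] at hu'
        rw [hu', e01] at hρu
        exact absurd hρu n12
      · rw [h, hV] at hu'
        rw [hu', map_zero, zero_add] at hρu
        exact absurd hρu.symm n1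
    have hz : a = ρ (ρ b) := by
      refine cW _ _ (han _ ?_)
      rw [hs, sa, hsρ, hsρ, sb, ← h1 b hb, map_add, hab, huv, hV]
    have e : ρ b = ρ (ρ b) := by
      rw [← hz, ← hτa, hz, hτρρ, hτb]
    have e' := h1 b hb
    rw [← e] at e'
    exact hb0 (add_eq_right.1 e')
  obtain ⟨c, hc⟩ : ∃ c : W, ∀ a ∈ W₀, τ a = a → a = 0 ∨ a = c := by
    by_cases h : ∃ c ∈ W₀, τ c = c ∧ c ≠ 0
    · obtain ⟨c, hc, hτc, hc0⟩ := h
      refine ⟨c, fun a ha hτa => ?_⟩
      by_cases ha0 : a = 0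
      · exact .inl ha0
      · exact .inr (h3 a ha c hc hτa hτc ha0 hc0)
    · refine ⟨0, fun a ha hτa => .inl ?_⟩
      by_contra ha0
      exact h ⟨a, ha, hτa, ha0⟩
  have hsub : (W₀ : Set W) ⊆ (({0, c, ρ c, ρ c + c} : Finset W) : Set W) := by
    intro x hx
    have hx' : x ∈ W₀ := hx
    have e : x = ρ (x + τ x) + (ρ (ρ x) + ρ (τ x)) := by
      rw [map_add, ← h1 x hx']
      have e : ρ x + ρ (τ x) + (x + ρ x + ρ (τ x)) = x + (ρ x + ρ x) + (ρ (τ x) + ρ (τ x)) := by abel
      rw [e, hW, hW, add_zero, add_zero]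
    have ha := hc (x + τ x) (add_mem hx' (h0τ _ hx')) (by rw [map_add, hτ, add_comm])
    have hb := hc (ρ (ρ x) + ρ (τ x)) (add_mem (h0ρ _ (h0ρ _ hx')) (h0ρ _ (h0τ _ hx')))
      (by rw [map_add, hτρρ, hτρ, add_comm])
    rw [e]
    rcases ha with ha | ha <;> rcases hb with hb | hb <;> rw [ha, hb] <;> simp
  calc Nat.card W₀ = (W₀ : Set W).ncard := rfl
    _ ≤ (({0, c, ρ c, ρ c + c} : Finset W) : Set W).ncard := Set.ncard_le_ncard hsub (Set.toFinite _)
    _ = ({0, c, ρ c, ρ c + c} : Finset W).card := Set.ncard_coe_finset _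
    _ ≤ 4 := Finset.card_le_four

end CL.Pyr
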