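import Cfsg.Agent.Pyr.Defs

/-! An anisotropic quadratic map to the natural module commuting with `GL₃(2)` is additive. -/

set_option autoImplicit false

namespace CL.Pyr

universe u

namespace QSx

abbrev V := Fin 3 → ZMod 2
abbrev H := ZMod 2 × ZMod 2

def t1 : V ≃+ V := ⟨⟨fun x => ![x 0 + x 2, x 1, x 2], fun x => ![x 0 + x 2, x 1, x 2], by decide, by decide⟩, by decide⟩
def t2 : V ≃+ V := ⟨⟨fun x => ![x 0, x 1 + x 2, x 2], fun x => ![x 0, x 1 + x 2, x 2], by decide, by decide⟩, by decide⟩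
def tt : V ≃+ V := ⟨⟨fun x => ![x 0 + x 1, x 1, x 2], fun x => ![x 0 + x 1, x 1, x 2], by decide, by decide⟩, by decide⟩
def rr : V ≃+ V := ⟨⟨fun x => ![x 1, x 0 + x 1, x 2], fun x => ![x 0 + x 1, x 0, x 2], by decide, by decide⟩, by decide⟩
def j (h : H) : V := ![h.1, h.2, 0]
def r2 (h : H) : H := (h.2, h.1 + h.2)
def u2 (h : H) : H := (h.1 + h.2, h.2)

structure D {W : Type u} [AddCommGroup W] (s : W → V) (B : W →+ W →+ V) (T1 T2 R T : W →+ W) : Prop where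
  two : ∀ x : W, x + x = 0
  quad : ∀ x y, s (x + y) = s x + s y + B x y
  an : ∀ x, s x = 0 → x = 0
  s1 : ∀ x, s (T1 x) = t1 (s x)
  s2 : ∀ x, s (T2 x) = t2 (s x)
  sR : ∀ x, s (R x) = rr (s x)
  sT : ∀ x, s (T x) = tt (s x)
  T11 : ∀ x, T1 (T1 x) = x
  T22 : ∀ x, T2 (T2 x) = x
  T12 : ∀ x, T2 (T1 x) = T1 (T2 x)
  R1 : ∀ x, T1 (R x) = R (T1 (T2 x))
  R2 : ∀ x, T2 (R x) = R (T1 x)
  U1 : ∀ x, T1 (T x) = T (T1 x)
  U2 : ∀ x, T2 (T x) = T (T1 (T2 x))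
  four : ∀ W₀ : AddSubgroup W, (∀ x ∈ W₀, T x ∈ W₀) → (∀ x ∈ W₀, R x ∈ W₀) → (∀ x ∈ W₀, s x 2 = 0) → Nat.card W₀ ≤ 4

variable {W : Type u} [AddCommGroup W] {s : W → V} {B : W →+ W →+ V} {T1 T2 R T : W →+ W} {x y : W}

/-- the fixed points of the transvection group -/
def Fx (T1 T2 : W →+ W) : AddSubgroup W where
  carrier := {x | T1 x = x ∧ T2 x = x}
  zero_mem' := ⟨map_zero _, map_zero _⟩
  add_mem' a b := ⟨by rw [map_add, a.1, b.1], by rw [map_add, a.2, b.2]⟩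
  neg_mem' a := ⟨by rw [map_neg, a.1], by rw [map_neg, a.2]⟩

theorem vtwo : ∀ a b : V, a + b = 0 ↔ a = b := by decide

namespace D

variable (h : D s B T1 T2 R T)
include h

theorem eq_add {a b c : W} (e : a + b = c) : a = b + c := by rw [← e, add_left_comm, h.two, add_zero]

theorem s0 : s 0 = 0 := by simpa [(vtwo _ _).2 rfl] using h.quad 0 0

theorem Bxx (x : W) : B x x = 0 := by simpa [h.two, h.s0, (vtwo _ _).2 rfl] using (h.quad x x).symm

theorem Bsymm (x y : W) : B x y = B y x := by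
  have := h.quad y x
  rw [add_comm, h.quad, add_comm (s x)] at this
  exact add_left_cancel this

theorem Bmap {A : W →+ W} {g : V ≃+ V} (e : ∀ x, s (A x) = g (s x)) (x y : W) : B (A x) (A y) = g (B x y) := by
  have := h.quad (A x) (A y)
  rw [← map_add, e, e, e, h.quad, map_add, map_add] at this
  exact (add_left_cancel this).symm

theorem fxR (hx : x ∈ Fx T1 T2) : R x ∈ Fx T1 T2 := ⟨by rw [h.R1, hx.2, hx.1], by rw [h.R2, hx.1]⟩
theorem fxT (hx : x ∈ Fx T1 T2) : T x ∈ Fx T1 T2 := ⟨by rw [h.U1, hx.1], by rw [h.U2, hx.2, hx.1]⟩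

theorem fxs (hx : x ∈ Fx T1 T2) : s x 2 = 0 :=
  (by decide : ∀ a : V, a = t1 a → a 2 = 0) _ (by rw [← h.s1, hx.1])

theorem nu (x : W) : T2 (T1 x + x) + (T1 x + x) ∈ Fx T1 T2 :=
  ⟨by simp only [map_add, h.T11, h.T12]; abel, by simp only [map_add, h.T22, h.T12]; abel⟩

theorem step (e : T2 (T1 x + x) + (T1 x + x) = 0) : T1 x + x ∈ Fx T1 T2 ∧ T2 x + x ∈ Fx T1 T2 := by
  refine ⟨⟨by rw [map_add, h.T11, add_comm], by simpa using h.eq_add e⟩, ?_, by rw [map_add, h.T22, add_comm]⟩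
  refine (h.eq_add (c := 0) ?_).trans (add_zero _)
  rw [← e]; simp only [map_add, h.T12]; abel

/-- coordinates on the fixed points -/
theorem exists_w [Finite W] (hx : x ∈ Fx T1 T2) (h0 : x ≠ 0) : ∃ w : H → W, (∀ k, w k ∈ Fx T1 T2) ∧ (∀ k, s (w k) = j k) ∧
    (∀ y ∈ Fx T1 T2, ∃ k, y = w k) := by
  have k1 : ∀ k : H, ∃ y ∈ Fx T1 T2, s y = j k := fun k => by
    rcases (by decide : ∀ (a : V) (k : H), a 2 = 0 → a ≠ 0 → 0 = j k ∨ a = j k ∨ rr a = j k ∨ rr (rr a) = j k) _ k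
      (h.fxs hx) (mt (h.an x) h0) with e | e | e | e
    exacts [⟨0, zero_mem _, h.s0.trans e⟩, ⟨x, hx, e⟩, ⟨_, h.fxR hx, (h.sR _).trans e⟩,
      ⟨_, h.fxR (h.fxR hx), by rw [h.sR, h.sR, e]⟩]
  choose w w1 w2 using k1
  have := h.four _ (fun _ => h.fxT) (fun _ => h.fxR) fun _ => h.fxs
  have k2 : Function.Bijective fun k => (⟨w k, w1 k⟩ : Fx T1 T2) := Function.Injective.bijective_of_nat_card_le
    (fun a b e => (by decide : ∀ a b, j a = j b → a = b) a b (by rw [← w2, ← w2, show w a = w b from congrArg Subtype.val e]))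
    (by simpa using this)
  exact ⟨w, w1, w2, fun y hy => (k2.2 ⟨y, hy⟩).imp fun k e => (congrArg Subtype.val e).symm⟩

end D

structure E (s : W → V) (B : W →+ W →+ V) (T1 T2 R T : W →+ W) (w : H → W) : Prop extends D s B T1 T2 R T where
  w1 : ∀ k, w k ∈ Fx T1 T2
  w2 : ∀ k, s (w k) = j k
  w3 : ∀ y ∈ Fx T1 T2, ∃ k, y = w k

/-- the displacement of `y` -/
def P (T1 T2 : W →+ W) (w : H → W) (y : W) (p p' : H) : Prop := T1 y = y + w p ∧ T2 y = y + w p'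

namespace E

variable {w : H → W} {p p' q q' : H} (h : E s B T1 T2 R T w)
include h

theorem eq_w (hy : y ∈ Fx T1 T2) (e : s y = j p) : y = w p := by
  obtain ⟨k, rfl⟩ := h.w3 y hy
  rw [(by decide : ∀ a b, j a = j b → a = b) k p ((h.w2 k).symm.trans e)]

theorem w0 : w 0 = 0 := h.an _ ((h.w2 0).trans (by decide))

theorem w_inj (e : w p = w q) : p = q := (by decide : ∀ a b, j a = j b → a = b) _ _ (by rw [← h.w2, ← h.w2, e])

theorem w_add (p q : H) : w (p + q) = w p + w q := by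
  obtain ⟨k, e⟩ := h.w3 _ (add_mem (h.w1 p) (h.w1 q))
  rcases (by decide : ∀ p q k : H, k = p + q ∨ p = 0 ∨ q = 0 ∨ p = q ∨ k = 0 ∨ k = p ∨ k = q) p q k with
    a | a | a | a | a | a | a
  · rw [e, a]
  · rw [a, h.w0, zero_add, zero_add]
  · rw [a, h.w0, add_zero, add_zero]
  · rw [a, h.two, (by decide : ∀ q : H, q + q = 0), h.w0]
  · rw [a, h.w0] at e
    rw [e, h.w_inj ((h.eq_add e).trans (add_zero _)), (by decide : ∀ q : H, q + q = 0), h.w0]
  · rw [a, add_eq_left, ← h.w0] at e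
    rw [h.w_inj e, h.w0, add_zero, add_zero]
  · rw [a, add_eq_right, ← h.w0] at e
    rw [h.w_inj e, h.w0, zero_add, zero_add]

theorem Bww (p q : H) : B (w p) (w q) = 0 := by
  have := h.quad (w p) (w q)
  rw [← h.w_add, h.w2, h.w2, h.w2, (by decide : ∀ p q, j (p + q) = j p + j q)] at this
  exact left_eq_add.1 this

theorem Rw (p : H) : R (w p) = w (r2 p) := h.eq_w (h.fxR (h.w1 p)) (by rw [h.sR, h.w2]; revert p; decide)
theorem Tw (p : H) : T (w p) = w (u2 p) := h.eq_w (h.fxT (h.w1 p)) (by rw [h.sT, h.w2]; revert p; decide)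

theorem padd (a : P T1 T2 w x p p') (b : P T1 T2 w y q q') : P T1 T2 w (x + y) (p + q) (p' + q') :=
  ⟨by rw [map_add, a.1, b.1, h.w_add]; abel, by rw [map_add, a.2, b.2, h.w_add]; abel⟩

theorem p3 (a : P T1 T2 w x p p') : T1 (T2 x) = x + w (p + p') := by
  rw [a.2, map_add, a.1, (h.w1 p').1, h.w_add, add_assoc]

theorem pR (a : P T1 T2 w x p p') : P T1 T2 w (R x) (r2 (p + p')) (r2 p) :=
  ⟨by rw [h.R1, h.p3 a, map_add, h.Rw], by rw [h.R2, a.1, map_add, h.Rw]⟩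

theorem pT (a : P T1 T2 w x p p') : P T1 T2 w (T x) (u2 p) (u2 (p + p')) :=
  ⟨by rw [h.U1, a.1, map_add, h.Tw], by rw [h.U2, h.p3 a, map_add, h.Tw]⟩

theorem p0 (a : P T1 T2 w x 0 0) : x ∈ Fx T1 T2 := ⟨by rw [a.1, h.w0, add_zero], by rw [a.2, h.w0, add_zero]⟩

theorem b1 (a : P T1 T2 w x p p') : B x (w p) = j p + j (s x 2, 0) ∧ B x (w p') = j p' + j (0, s x 2) := by
  have e1 := h.s1 x
  have e2 := h.s2 x
  rw [a.1, h.quad, h.w2] at e1
  rw [a.2, h.quad, h.w2] at e2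
  exact ⟨(by decide : ∀ a b c : V, a + b + c = t1 a → c = b + j (a 2, 0)) _ _ _ e1,
    (by decide : ∀ a b c : V, a + b + c = t2 a → c = b + j (0, a 2)) _ _ _ e2⟩

theorem b2 (a : P T1 T2 w x p p') (b : P T1 T2 w y q q') : B x (w q) + B y (w p) = j (B x y 2, 0) := by
  have e := h.Bmap h.s1 x y
  rw [a.1, b.1] at e
  simp only [map_add, AddMonoidHom.add_apply, h.Bww, add_zero, h.Bsymm (w p) y] at e
  exact (by decide : ∀ a b c : V, a + c + b = t1 a → b + c = j (a 2, 0)) _ _ _ e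

theorem sub (a : P T1 T2 w x p (r2 p)) (h0 : p ≠ 0) : s x 2 = 1 := by
  refine ((by decide : ∀ c : ZMod 2, c = 0 ∨ c = 1) _).resolve_left fun e => h0 ?_
  obtain ⟨c1, c2⟩ := h.b1 a
  rw [e, show j (0, 0) = 0 by decide, add_zero] at c1 c2
  have k : ∀ q, B x (w q) = j q := fun q => by
    rcases (by decide : ∀ p q : H, p ≠ 0 → q = 0 ∨ q = p ∨ q = r2 p ∨ q = p + r2 p) p q h0 with rfl | rfl | rfl | rfl
    exacts [by rw [h.w0, map_zero]; decide, c1, c2, by rw [h.w_add, map_add, c1, c2, (by decide : ∀ p q, j (p + q) = j p + j q)]]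
  have b := h.padd (h.pR a) a
  rw [(by decide : ∀ p, r2 (p + r2 p) + p = 0), (by decide : ∀ q : H, q + q = 0)] at b
  obtain ⟨q, hq⟩ := h.w3 _ (h.p0 b)
  have c := h.sR x
  rw [h.eq_add hq, h.quad, k, h.w2] at c
  obtain rfl := h.an x ((by decide : ∀ a b : V, a 2 = 0 → a + b + b = rr a → a = 0) _ _ e c)
  refine h.w_inj ?_
  simpa [h.w0] using a.1.symm

theorem noZ (a : P T1 T2 w x (1, 0) (1, 1)) : False := by
  have b : P T1 T2 w (R x) (1, 1) (0, 1) := h.pR a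
  obtain ⟨c1, c2⟩ := h.b1 b
  have c := h.b2 a b
  rw [(h.b1 a).2, show ((1, 0) : H) = (1, 1) + (0, 1) by decide, h.w_add, map_add, c1, c2, h.sR] at c
  revert c
  generalize s x = a
  generalize B x (R x) 2 = b
  revert a b; decide

theorem noR (a : P T1 T2 w x (0, 1) (1, 1)) : False := by
  have b : P T1 T2 w (T x) (1, 1) (1, 0) := h.pT a
  obtain ⟨c1, c2⟩ := h.b1 b
  have c := h.b2 a b
  have d1 := h.sub (p := (0, 1)) a (by decide)
  have d2 := h.sub (p := (1, 0)) (h.padd a b) (by decide)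
  rw [(h.b1 a).2, show ((0, 1) : H) = (1, 1) + (1, 0) by decide, h.w_add, map_add, c1, c2, h.sT] at c
  rw [h.quad, h.sT] at d2
  revert c d1 d2
  generalize s x = a
  generalize B x (T x) = b
  revert a b; decide

theorem cls (a : P T1 T2 w x p p') : (p = 0 ∧ p' = 0) ∨ (p = (1, 0) ∧ p' = (0, 1)) := by
  have b := h.padd (h.pR a) (h.pR (h.pR a))
  have c := h.padd a b
  have z : ∀ {x q q'}, P T1 T2 w x q q' → (q, q') ≠ ((1, 0), (1, 1)) ∧ (q, q') ≠ ((0, 1), (1, 1)) := fun a =>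
    ⟨fun e => by cases e; exact h.noZ a, fun e => by cases e; exact h.noR a⟩
  have k1 := (z b).1
  have k2 := (z (h.pR b)).1
  have k3 := (z (h.pR (h.pR b))).1
  have k4 := (z c).2
  have k5 := (z (h.pT c)).2
  clear a b c
  revert p p'
  decide

theorem all (x : W) : ∃ p p', P T1 T2 w x p p' := by
  obtain ⟨k, hk⟩ := h.w3 _ (h.nu x)
  have a : P T1 T2 w (T1 x + x) 0 k := ⟨by rw [map_add, h.T11, h.w0, add_zero, add_comm], h.eq_add hk⟩
  obtain rfl : k = 0 := (h.cls a).elim (·.2) fun e => absurd e.1 (by decide)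
  obtain ⟨c1, c2⟩ := h.step (hk.trans h.w0)
  obtain ⟨p, hp⟩ := h.w3 _ c1
  obtain ⟨p', hp'⟩ := h.w3 _ c2
  exact ⟨p, p', h.eq_add hp, h.eq_add hp'⟩

theorem Bw (x : W) (hy : y ∈ Fx T1 T2) : B x y = 0 := by
  obtain ⟨q, rfl⟩ := h.w3 y hy
  obtain ⟨p, p', a⟩ := h.all x
  rcases h.cls a with ⟨rfl, rfl⟩ | ⟨rfl, rfl⟩
  · obtain ⟨k, rfl⟩ := h.w3 x (h.p0 a)
    exact h.Bww _ _
  obtain ⟨c1, c2⟩ := h.b1 a
  rw [h.sub (p := (1, 0)) a (by decide), (vtwo _ _).2 rfl] at c1 c2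
  rcases (by decide : ∀ q : H, q = 0 ∨ q = (1, 0) ∨ q = (0, 1) ∨ q = (1, 0) + (0, 1)) q with rfl | rfl | rfl | rfl
  exacts [by rw [h.w0, map_zero], c1, c2, by rw [h.w_add, map_add, c1, c2, add_zero]]

theorem main (x y : W) : B x y = 0 := by
  obtain ⟨p, p', a⟩ := h.all x
  obtain ⟨q, q', b⟩ := h.all y
  rcases h.cls a with ⟨rfl, rfl⟩ | ⟨rfl, rfl⟩
  · rw [h.Bsymm]; exact h.Bw _ (h.p0 a)
  rcases h.cls b with ⟨rfl, rfl⟩ | ⟨rfl, rfl⟩
  · exact h.Bw _ (h.p0 b)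
  simpa [h.Bxx] using h.Bw x (h.p0 (h.padd a b))

end E

theorem D.main [Finite W] (h : D s B T1 T2 R T) (x y : W) : B x y = 0 := by
  by_cases e : ∀ x ∈ Fx T1 T2, x = 0
  · obtain ⟨c1, c2⟩ := h.step (e _ (h.nu x))
    rw [e x ⟨by simpa using h.eq_add (e _ c1), by simpa using h.eq_add (e _ c2)⟩, map_zero, AddMonoidHom.zero_apply]
  push Not at e
  obtain ⟨z, hz, h0⟩ := e
  obtain ⟨w, w1, w2, w3⟩ := h.exists_w hz h0
  exact E.main ⟨h, w1, w2, w3⟩ x y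

end QSx

open QSx in
theorem qS (q : Q2.{u}) : QS.{u} := fun W _ _ a s B a1 a2 two quad an eqv => by
  have k1 : ∀ g : V ≃+ V, (∀ v, g (g v) = v) → ∀ x, a g (a g x) = x := fun g e x => by
    rw [← a2, show g.trans g = AddEquiv.refl _ from AddEquiv.ext e, a1]
  refine D.main (T1 := a t1) (T2 := a t2) (R := a rr) (T := a tt) ⟨two, quad, an, eqv _, eqv _, eqv _, eqv _,
    k1 _ (by decide), k1 _ (by decide), fun x => ?_, fun x => ?_, fun x => ?_, fun x => ?_, fun x => ?_,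
    fun W₀ h1 h2 h3 => q W V s B (a tt) (a rr) tt rr ![1, 0, 0] W₀ two (by decide) quad an (k1 _ (by decide))
      (fun x => ?_) (fun x => ?_) (eqv _) (eqv _) h1 h2 (fun x hx => ?_) (by decide) (by decide) (by decide) (by decide)
      (by decide)⟩
  iterate 5 simp only [← a2]; exact congrArg (a · x) (AddEquiv.ext (by decide))
  · rw [← a2, ← a2, show rr.trans (rr.trans rr) = AddEquiv.refl _ from AddEquiv.ext (by decide), a1]
  · simp only [← a2]; exact congrArg (a · x) (AddEquiv.ext (by decide))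
  · exact (by decide : ∀ v : V, v 2 = 0 → v = 0 ∨ v = ![1, 0, 0] ∨ v = rr ![1, 0, 0] ∨ v = rr (rr ![1, 0, 0])) _ (h3 x hx)

end CL.Pyr
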