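/-
Project PYR, job R3 (helper22): reduction of the full linear group to dimension three.
-/
import Cfsg.Agent.Pyr.Defs

set_option autoImplicit false

namespace CL.Pyr

open Subgroup

universe u

namespace R3J

theorem frat {H : Type u} [Group H] [Finite H] {C : Subgroup H} (P : Sylow 3 C) {h : H}
    (hh : h ∈ normalizer (C : Set H)) :
    ∃ c ∈ C, c * h ∈ normalizer (((P : Subgroup C).map C.subtype : Subgroup H) : Set H) := by
  obtain ⟨n, hn⟩ := MulAction.exists_smul_eq C ((C.normalizerMonoidHom ⟨h, hh⟩ : MulAut C) • P) P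
  refine ⟨n, n.2, mem_normalizer_fintype ?_⟩
  rintro _ ⟨x, hx, rfl⟩
  have := smul_mem_pointwise_smul _ (MulAut.conj n) _
    (smul_mem_pointwise_smul _ (C.normalizerMonoidHom ⟨h, hh⟩ : MulAut C) _ hx)
  refine ⟨_, (congrArg (fun Q : Sylow 3 C => (Q : Subgroup C)) hn).le this, ?_⟩
  change (n : H) * (h * x * h⁻¹) * (n : H)⁻¹ = n * h * x * (n * h)⁻¹
  group

theorem lift3 {H K : Type*} [Group H] [Finite H] [Group K] (κ : H →* K) {c : H} (h : κ c ^ 3 = 1) :
    ∃ (d : H) (k : ℕ), κ d = κ c ∧ d ^ 3 ^ k = 1 := by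
  obtain ⟨k, m, h1, h2⟩ := Nat.exists_eq_pow_mul_and_not_dvd (orderOf_pos c).ne' 3 (by norm_num)
  refine ⟨c ^ (m * m), k, ?_, ?_⟩
  · rw [map_pow, pow_eq_pow_mod _ h, show m * m % 3 = 1 by
      rw [Nat.mul_mod]
      obtain e | e : m % 3 = 1 ∨ m % 3 = 2 := by omega
      all_goals rw [e], pow_one]
  · rw [← pow_mul, show m * m * 3 ^ k = 3 ^ k * m * m by ring, ← h2, pow_mul, pow_orderOf_eq_one, one_pow]

/-- the automorphisms of a direct product that preserve the factors -/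
def T {V A B : Type*} [Group V] [Group A] [Group B] (e : V ≃* A × B) : MulAut A × MulAut B →* MulAut V :=
  MonoidHom.mk' (fun p => e.trans ((MulEquiv.prodCongr p.1 p.2).trans e.symm)) fun p q => by
    ext v
    simp [MulEquiv.prodCongr, Prod.map]

theorem T_apply {V A B : Type*} [Group V] [Group A] [Group B] (e : V ≃* A × B) (α : MulAut A) (β : MulAut B)
    (a : A) (b : B) : T e (α, β) (e.symm (a, b)) = e.symm (α a, β b) := by
  simp [T, MulEquiv.prodCongr]

theorem core {H : Type u} [Group H] [Finite H] {V : Subgroup H} (hO : Om V) (hF : Full V) {A B : Type} [Group A]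
    [Group B] (e : V ≃* A × B) (β : MulAut B) (h3 : β ^ 3 = 1) (hf : ∀ b, β b = b → b = 1) :
    ∃ (H₀ : Subgroup H) (V₀ : Subgroup H₀), Om V₀ ∧ Full V₀ ∧ Nat.card V₀ = Nat.card A := by
  have hV : V.Normal := ⟨fun x hx g => (hO _).2 (by rw [conj_mul, (hO x).1 hx]; simp)⟩
  let κ : H →* MulAut V := MulAut.conjNormal
  have surj : ∀ φ, ∃ h, κ h = φ := fun φ => (hF φ).imp fun h k => MulEquiv.ext fun v => Subtype.ext (k v)
  let y : MulAut V := T e (1, β)
  let C : Subgroup H := (zpowers y).comap κ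
  obtain ⟨c, hc⟩ := surj y
  obtain ⟨d, k, hd, dk⟩ := lift3 κ (c := c) (by rw [hc, ← map_pow]; simp [h3, Prod.mk_one_one])
  rw [hc] at hd
  have dC : d ∈ C := by rw [mem_comap, hd]; exact mem_zpowers y
  have : Fact (Nat.Prime 3) := ⟨Nat.prime_three⟩
  obtain ⟨P, hP⟩ := (show IsPGroup 3 (zpowers (⟨d, dC⟩ : C)) from by
    rintro ⟨_, i, rfl⟩
    refine ⟨k, Subtype.ext (Subtype.ext ?_)⟩
    change (d ^ i) ^ 3 ^ k = 1
    rw [← zpow_natCast, zpow_comm, zpow_natCast, dk, one_zpow]).exists_le_sylow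
  let Q : Subgroup H := (P : Subgroup C).map C.subtype
  have dQ : d ∈ Q := ⟨_, hP (mem_zpowers _), rfl⟩
  let ι : A →* H := V.subtype.comp (e.symm.toMonoidHom.comp (MonoidHom.inl A B))
  have ιi : Function.Injective ι := Subtype.val_injective.comp (e.symm.injective.comp (Prod.mk_left_injective _))
  have fixC : ∀ g ∈ C, ∀ a, g * ι a * g⁻¹ = ι a := fun g hg a =>
    congrArg Subtype.val ((zpowers_le (H := MulAction.stabilizer (MulAut V) (e.symm (a, 1)))).2
      (show T e (1, β) _ = _ by rw [T_apply]; simp) hg : κ g (e.symm (a, 1)) = _)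
  have ιN : ∀ a, ι a ∈ normalizer (Q : Set H) := fun a => mem_normalizer_fintype fun x hx => by
    rwa [← mul_inv_eq_iff_eq_mul.1 (fixC x (map_subtype_le _ hx) a), mul_inv_cancel_right]
  let ι' : A →* normalizer (Q : Set H) := ι.codRestrict _ ιN
  have ιi' : Function.Injective ι' := fun a b k => ιi (Subtype.ext_iff.1 k :)
  let j : A ≃* ι'.range := MonoidHom.ofInjective ιi'
  refine ⟨_, ι'.range, fun x => ⟨?_, fun hx => ?_⟩, fun φ => ?_, Nat.card_congr j.symm.toEquiv⟩
  · rintro ⟨a, rfl⟩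
    exact Subtype.ext ((hO _).1 (e.symm (a, 1)).2)
  · have xV : (x : H) ∈ V := (hO _).2 (congrArg Subtype.val hx)
    have zV : d * x * d⁻¹ * (x : H)⁻¹ ∈ V := mul_mem (hV.conj_mem _ xV d) (inv_mem xV)
    have zQ : d * x * d⁻¹ * (x : H)⁻¹ ∈ Q := by
      simpa only [mul_assoc] using mul_mem dQ ((mem_normalizer_iff.1 x.2 _).1 (inv_mem dQ))
    obtain ⟨l, hl⟩ := (P.isPGroup'.map C.subtype) ⟨_, zQ⟩
    have z1 : d * x * d⁻¹ * (x : H)⁻¹ = 1 := by
      have h1 : orderOf (d * x * d⁻¹ * (x : H)⁻¹) ∣ 2 := orderOf_dvd_of_pow_eq_one (by rw [sq]; exact (hO _).1 zV)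
      exact orderOf_eq_one_iff.1 (Nat.eq_one_of_dvd_coprimes ((by norm_num : Nat.Coprime 2 3).pow_right l) h1
        (orderOf_dvd_of_pow_eq_one (congrArg Subtype.val hl)))
    obtain ⟨⟨a, b⟩, e1⟩ := e.symm.surjective ⟨x, xV⟩
    have e2 : y (e.symm (a, b)) = e.symm (a, b) := by
      rw [← hd, e1]; exact Subtype.ext (mul_inv_eq_one.1 z1)
    rw [T_apply] at e2
    obtain rfl := hf b (congrArg Prod.snd (e.symm.injective e2))
    exact ⟨a, Subtype.ext (Subtype.ext_iff.1 e1 :)⟩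
  · obtain ⟨h, hh⟩ := surj (T e (j.trans (φ.trans j.symm), 1))
    have cm : Commute (κ h) y := hh ▸ Commute.map (Prod.ext (by simp) (by simp)) (T e)
    obtain ⟨n, nC, hn⟩ := frat P (h := h) (mem_normalizer_fintype fun g hg => by
      obtain ⟨i, hi⟩ := mem_comap.1 hg
      refine mem_comap.2 ⟨i, ?_⟩
      rw [map_mul, map_mul, map_inv, ← hi, (cm.zpow_right i).eq, mul_inv_cancel_right])
    refine ⟨⟨_, hn⟩, fun v => Subtype.ext ?_⟩
    obtain ⟨a, rfl⟩ := j.surjective v
    have e1 : h * ι a * h⁻¹ = ι (j.symm (φ (j a))) :=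
      congrArg Subtype.val (show κ h (e.symm (a, 1)) = e.symm (_, 1) by rw [hh, T_apply]; rfl)
    calc n * h * ι a * (n * h)⁻¹ = n * (h * ι a * h⁻¹) * n⁻¹ := by group
      _ = ι (j.symm (φ (j a))) := by rw [e1, fixC n nC]
      _ = ((j (j.symm (φ (j a))) : normalizer (Q : Set H)) : H) := rfl
      _ = _ := by rw [j.apply_symm_apply]

theorem elem_iso {V : Type u} [Group V] [Finite V] (h : ∀ x : V, x * x = 1) (W : Type) [AddCommGroup W]
    [Module (ZMod 2) W] [Finite W] (hc : Nat.card V = Nat.card W) : Nonempty (V ≃* Multiplicative W) := by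
  let _ : CommGroup V := { ‹Group V› with
    mul_comm := fun a b => by
      rw [← inv_eq_of_mul_eq_one_right (h (a * b)), mul_inv_rev, inv_eq_of_mul_eq_one_right (h a),
        inv_eq_of_mul_eq_one_right (h b)] }
  let _ : Module (ZMod 2) (Additive V) := AddCommGroup.zmodModule fun x => by rw [two_nsmul]; exact h x.toMul
  have h1 := Module.natCard_eq_pow_finrank (K := ZMod 2) (V := Additive V)
  have h2 := Module.natCard_eq_pow_finrank (K := ZMod 2) (V := W)
  rw [Nat.card_zmod] at h1 h2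
  obtain ⟨e⟩ := FiniteDimensional.nonempty_linearEquiv_of_finrank_eq (R := ZMod 2) (M := Additive V) (M' := W)
    (Nat.pow_right_injective le_rfl (h1.symm.trans (hc.trans h2)))
  exact ⟨AddEquiv.toMultiplicativeRight e.toAddEquiv⟩

/-- an automorphism of order three of the four-group -/
def rot : ZMod 2 × ZMod 2 ≃+ ZMod 2 × ZMod 2 where
  toFun p := (p.2, p.1 + p.2)
  invFun p := (p.1 + p.2, p.1)
  left_inv := by decide
  right_inv := by decide
  map_add' := by decide

end R3J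

open R3J in
theorem r3S : R3S.{u} := by
  intro H _ _ V n hO hF hc ⟨l, hl⟩ h3
  obtain ⟨m, rfl⟩ : ∃ m, n = 3 + 2 * m := ⟨l - 1, by omega⟩
  obtain ⟨e⟩ := elem_iso (V := V) (fun x => Subtype.ext ((hO _).1 x.2))
    ((Fin 3 → ZMod 2) × (Fin m → ZMod 2 × ZMod 2)) (by rw [hc]; simp [pow_add, pow_mul])
  have := core hO hF (e.trans (MulEquiv.prodMultiplicative _ _))
    (AddEquiv.toMultiplicative (AddEquiv.piCongrRight fun _ : Fin m => rot))
    (MulEquiv.ext fun b => funext fun i => (by decide : ∀ p, rot (rot (rot p)) = p) (b.toAdd i))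
    fun b k => funext fun i => (by decide : ∀ p, rot p = p → p = 0) (b.toAdd i) (congrFun k i)
  simpa using this

end CL.Pyr
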