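/-
Groups with a prime power number of involutions forming one class: the reduction.
-/
import Cfsg.Agent.Pyr.Defs
import Cfsg.Agent.S4037
import Cfsg.Agent.S4364
import Cfsg.Agent.S0205
import Cfsg.Agent.Grp.SZConj
import Cfsg.Agent.Grp.CoresPi

set_option autoImplicit false

namespace CL.Pyr

open Subgroup Cfsg CL.Grp

universe u

theorem red_mers {p j n : ℕ} (hp : Odd p) (hn : 2 ≤ n) (h : 2 ^ n - 1 = p ^ j) : p ^ j = p := by
  have h0 : 2 ^ n = p ^ j + 1 := by have := Nat.one_le_two_pow (n := n); omega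
  obtain ⟨c, rfl⟩ := hp
  rcases Nat.even_or_odd' j with ⟨m, rfl | rfl⟩
  · have h1 : (2 * c + 1) ^ (2 * m) ≡ 1 ^ m [MOD 4] := by
      rw [pow_mul]
      exact Nat.ModEq.pow m ((Nat.modEq_iff_dvd' (Nat.one_le_pow _ _ (by omega))).2 ⟨c * c + c, by
        rw [Nat.sub_eq_iff_eq_add (Nat.one_le_pow _ _ (by omega))]; ring⟩).symm
    have h2 : 2 ^ 2 ∣ 2 ^ n := pow_dvd_pow 2 hn
    rw [one_pow, Nat.ModEq] at h1
    omega
  · have h1 : (2 * c + 1) ^ (2 * m) ≡ 1 ^ m [MOD 2 * (2 * c + 1 + 1)] := by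
      rw [pow_mul]
      exact Nat.ModEq.pow m ((Nat.modEq_iff_dvd' (Nat.one_le_pow _ _ (by omega))).2 ⟨c, by
        rw [Nat.sub_eq_iff_eq_add (Nat.one_le_pow _ _ (by omega))]; ring⟩).symm
    have h2 := (h1.mul_right (2 * c + 1)).add_right 1
    rw [← pow_succ, ← h0, one_pow, one_mul] at h2
    obtain ⟨a, ha, e⟩ := (Nat.dvd_prime_pow Nat.prime_two).1
      (((h2.of_mul_left 2).dvd_iff dvd_rfl).2 dvd_rfl : 2 * c + 1 + 1 ∣ 2 ^ n)
    rcases ha.eq_or_lt with rfl | ha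
    · omega
    · have := Nat.le_of_dvd (by omega) ((h2.dvd_iff dvd_rfl).1 (by rw [e, ← pow_succ']; exact pow_dvd_pow 2 ha))
      omega

theorem red_cls {H : Type u} [Group H] [Finite H] {t : H} {S : Set H} (h : ∀ x, x ∈ S ↔ IsConj t x) :
    S.ncard = (centralizer {t}).index := by
  rw [← CL.Fgs.ncard_carrier_mk]
  exact congrArg _ (Set.ext fun x => (h x).trans (by rw [ConjClasses.mem_carrier_iff_mk_eq,
    ConjClasses.mk_eq_mk_iff_isConj, isConj_comm]))

theorem redS : RedS.{u} := by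
  intro hB hA G _ _ p k hp hp2 hn h1 hk
  have := Fact.mk hp
  have sq : ∀ {x : G}, orderOf x = 2 → x * x = 1 := fun h => by rw [← sq, ← h, pow_orderOf_eq_one]
  obtain ⟨⟨t, ht⟩⟩ : Nonempty {x : G // orderOf x = 2} := (Nat.card_pos_iff.1 (hn.ge.trans_lt' (pow_pos hp.pos k))).1
  have hc : (centralizer {t}).index = p ^ k := by
    rw [← red_cls (S := {x | orderOf x = 2}) fun x => ⟨fun h => isConj_iff.2 (h1 t x ht h), fun h => by
      obtain ⟨g, rfl⟩ := isConj_iff.1 h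
      exact ((MulAut.conj g).orderOf_eq t).trans ht⟩, ← hn]
    exact (Nat.card_coe_set_eq _).symm
  have hs := CL.Fgs.kazarin hp hc
  obtain ⟨O, _, hO, no⟩ : ∃ (O : Subgroup G) (_ : O.Normal), Odd (Nat.card O) ∧ NoOdd (G ⧸ O) :=
    ⟨pPrimeCore 2 G, inferInstance, Nat.coprime_two_right.1 (pPrimeCore_coprime 2 G), fun N _ h =>
      le_bot_iff.1 ((le_pPrimeCore (Nat.coprime_two_right.2 h)).trans (pPrimeCore_quotient_pPrimeCore 2 G).le)⟩
  have hπ := QuotientGroup.mk'_surjective O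
  have hk' : ∀ x, QuotientGroup.mk' O x = 1 ↔ x ∈ O := fun x => QuotientGroup.eq_one_iff x
  generalize QuotientGroup.mk' O = π at hπ hk'
  have od : ∀ x ∈ O, Odd (orderOf x) := fun x hx => hO.of_dvd_nat (orderOf_dvd_natCard O hx)
  have ne : ∀ {x}, orderOf x = 2 → π x ≠ 1 := fun h e => absurd (h ▸ od _ ((hk' _).1 e)) (by decide)
  have sq' : ∀ {x}, orderOf x = 2 → π x * π x = 1 := fun h => by rw [← map_mul, sq h, map_one]
  have lift : ∀ y, y ≠ 1 → y * y = 1 → ∃ x, orderOf x = 2 ∧ π x = y := fun y h h2 => by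
    obtain ⟨x, rfl⟩ := hπ y
    obtain ⟨m, hm⟩ := od (x ^ 2) ((hk' _).1 (by rw [map_pow, pow_two, h2]))
    have e : π (x ^ (2 * m + 1)) = π x := by rw [map_pow, pow_succ, pow_mul, pow_two, h2, one_pow, one_mul]
    exact ⟨_, orderOf_eq_prime (by rw [← pow_mul, mul_comm, pow_mul, ← hm, pow_orderOf_eq_one])
      fun e' => h (by rw [← e, e', map_one]), e⟩
  have one : One (G ⧸ O) := fun x y x1 x2 y1 y2 => by
    obtain ⟨x, hx, rfl⟩ := lift x x1 x2
    obtain ⟨y, hy, rfl⟩ := lift y y1 y2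
    obtain ⟨g, rfl⟩ := h1 x y hx hy
    exact ⟨π g, by simp⟩
  have : ((normalClosure {t}).map π).Normal := Normal.map inferInstance π hπ
  have : Group.IsSolvable ((normalClosure {t}).map π) := Group.isSolvable_of_surjective (π.subgroupMap_surjective _)
  obtain ⟨M, M1, -, M2, M3⟩ := exists_abelian_normal_le_of_isSolvable ((normalClosure {t}).map π) fun e =>
    ne ht (mem_bot.1 (e.le (mem_map_of_mem π (subset_normalClosure rfl))))
  obtain ⟨z, hz⟩ := exists_prime_orderOf_dvd_card' (G := M) 2 (by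
    rw [← even_iff_two_dvd, ← Nat.not_odd_iff_even]; exact fun h => M2 (no M M1 h))
  rw [← Subgroup.orderOf_coe] at hz
  have hM : ∀ x, x * x = 1 → x ∈ M := fun x hx => by
    by_cases e : x = 1
    · exact e ▸ one_mem _
    obtain ⟨g, rfl⟩ := one z x (fun e => by simp [e] at hz) (by rw [← pow_two, ← hz, pow_orderOf_eq_one]) e hx
    exact M1.conj_mem _ z.2 g
  let V : Subgroup (G ⧸ O) :=
    { carrier := {x | x * x = 1}
      one_mem' := mul_one 1
      mul_mem' := fun {a b} (ha : a * a = 1) (hb : b * b = 1) => by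
        have e : b * a = a * b := congrArg Subtype.val (M3.1.1 ⟨b, hM b hb⟩ ⟨a, hM a ha⟩)
        show a * b * (a * b) = 1
        rw [mul_assoc, ← mul_assoc b, e, mul_assoc, hb, mul_one, ha]
      inv_mem' := fun {a} (ha : a * a = 1) => by
        show a⁻¹ * a⁻¹ = 1
        rw [← mul_inv_rev, ha, inv_one] }
  have om : Om V := fun _ => Iff.rfl
  have := Fact.mk Nat.prime_two
  obtain ⟨n, hV⟩ := IsPGroup.exists_card_eq (p := 2) (G := V) fun v => ⟨1, Subtype.ext (by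
    rw [pow_one, coe_pow, pow_two]; exact v.2)⟩
  have c1 : ((V : Set (G ⧸ O)) \ {1}).ncard = 2 ^ n - 1 := by
    rw [Set.ncard_diff_singleton_of_mem V.one_mem, ← hV]; rfl
  have c2 : 2 ^ n - 1 ∣ p ^ k := by
    rw [← c1, ← hc, red_cls (t := π t) fun x => ⟨fun h => isConj_iff.2 (one _ x (ne ht) (sq' ht) h.2 h.1), fun h => by
      obtain ⟨g, rfl⟩ := isConj_iff.1 h
      exact ⟨show _ * _ = _ by rw [conj_mul, sq' ht]; simp, fun e => ne ht (conj_eq_one_iff.1 e)⟩⟩,
      ← index_comap_of_surjective _ hπ]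
    exact index_dvd_of_le fun g hg => mem_centralizer_singleton_iff.2 (by
      rw [← map_mul, mem_centralizer_singleton_iff.1 hg, map_mul])
  rcases le_or_gt 2 n with h2 | h2
  · obtain ⟨j, -, e⟩ := (Nat.dvd_prime_pow hp).1 c2
    have := hA _ V n om one no hV (by rw [e, red_mers (hp.odd_of_ne_two hp2) h2 e]; exact hp)
    have := Cfsg.Agent.S0205.result hO
    exact Group.isSolvable_of_ker_le_range O.subtype π fun x hx => ⟨⟨x, (hk' x).1 hx⟩, rfl⟩
  · refine hB G p k (pCore p G) hp hp2 inferInstance (pCore_isPGroup p G) (fun x y hx hy => ?_) hn hk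
    have e : π x = π y := (Set.ncard_le_one (Set.toFinite _)).1 (c1.le.trans (by interval_cases n <;> simp)) _
      ⟨sq' hx, ne hx⟩ _ ⟨sq' hy, ne hy⟩
    obtain ⟨m, hm⟩ := od (x * y) ((hk' _).1 (by rw [map_mul, e, sq' hy]))
    obtain ⟨g, rfl⟩ := h1 t x ht hx
    obtain ⟨h, rfl⟩ := h1 t y ht hy
    have := pow_mem (Cfsg.Agent.S4364.result p t ⟨k, hc⟩ g h) (m + 1)
    rwa [inv_eq_of_mul_eq_one_right (sq hx), inv_eq_of_mul_eq_one_right (sq hy), mul_assoc (_ * _ * _ * _), ← pow_two,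
      ← pow_mul, show 2 * (m + 1) = 2 * m + 1 + 1 by ring, pow_succ, ← hm, pow_orderOf_eq_one, one_mul] at this

end CL.Pyr
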