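import Cfsg.Agent.Pyr.Defs

/-! Project PYR (S3930): the transitive cyclic subgroup, and the reduction to a `2`-group centraliser. -/

set_option autoImplicit false

namespace CL.Pyr

open Subgroup

universe u

namespace TX

/-- a transitive group of prime degree contains a transitive cyclic subgroup -/
theorem cyc {N Ω : Type*} [Group N] [Finite N] [Finite Ω] [MulAction N Ω] (hp : (Nat.card Ω).Prime)
    (ht : ∀ x y : Ω, ∃ g : N, g • x = y) : ∃ σ : N, ∀ x y : Ω, ∃ i : ℕ, σ ^ i • x = y := by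
  classical
  have := Fintype.ofFinite Ω
  have := Fact.mk hp
  obtain ⟨x0⟩ := (Nat.card_pos_iff.1 hp.pos).1
  let R := (MulAction.toPermHom N Ω).range
  have : MulAction.IsPretransitive R Ω := ⟨fun x y => by
    obtain ⟨g, e⟩ := ht x y
    exact ⟨⟨_, g, rfl⟩, e⟩⟩
  have hd : Nat.card Ω ∣ Nat.card R := by
    rw [← MulAction.index_stabilizer_of_transitive R x0]
    exact index_dvd_card _
  obtain ⟨⟨_, σ, rfl⟩, hσ⟩ := exists_prime_orderOf_dvd_card' _ hd
  rw [← orderOf_coe, Nat.card_eq_fintype_card] at hσ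
  rw [Nat.card_eq_fintype_card] at hp
  have hc := Equiv.Perm.isCycle_of_prime_order'' hp hσ
  have hs : (MulAction.toPermHom N Ω σ).support = Finset.univ :=
    Finset.eq_univ_of_card _ (hc.orderOf.symm.trans hσ)
  refine ⟨σ, fun x y => ?_⟩
  obtain ⟨i, e⟩ := hc.exists_pow_eq (x := x) (y := y) (Equiv.Perm.mem_support.1 (hs ▸ Finset.mem_univ _))
    (Equiv.Perm.mem_support.1 (hs ▸ Finset.mem_univ _))
  rw [← map_pow] at e
  exact ⟨i, e⟩

variable {H : Type u} [Group H] {V : Subgroup H}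

theorem conj_mem (h : Om V) (g : H) {x : H} (hx : x ∈ V) : g * x * g⁻¹ ∈ V :=
  (h _).2 (by rw [conj_mul, (h x).1 hx, mul_one, mul_inv_cancel])

theorem normal (h : Om V) : V.Normal := ⟨fun _ hx g => conj_mem h g hx⟩

theorem full_sub (hf : Full V) {N : Subgroup H} (hV : V ≤ N)
    (hN : ∀ h : H, ∃ n ∈ N, ∃ c ∈ centralizer (V : Set H), n * c = h) : Full (V.subgroupOf N) := fun φ => by
  let e := subgroupOfEquivOfLe hV
  obtain ⟨h, hh⟩ := hf (e.symm.trans (φ.trans e))
  obtain ⟨n, hn, c, hc, rfl⟩ := hN h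
  refine ⟨⟨n, hn⟩, fun v => Subtype.ext ?_⟩
  have h1 := hh (e v)
  rw [MulEquiv.trans_apply, MulEquiv.trans_apply, e.symm_apply_apply, mul_assoc n, ← hc _ (e v).2] at h1
  refine Eq.trans ?_ h1
  change n * (e v : H) * n⁻¹ = _
  group

theorem quot [Finite H] (h : Om V) (hf : Full V) (P : Subgroup H) [P.Normal] (ho : Odd (Nat.card P)) :
    Om (V.map (QuotientGroup.mk' P)) ∧ Full (V.map (QuotientGroup.mk' P)) ∧
      Nat.card (V.map (QuotientGroup.mk' P)) = Nat.card V := by
  obtain ⟨k, hk⟩ := ho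
  have pw : ∀ x ∈ P, x ^ (2 * k + 1) = 1 := fun x hx => by
    rw [← hk]
    exact congrArg Subtype.val (pow_card_eq_one' (x := (⟨x, hx⟩ : P)))
  have inj : Function.Injective ((QuotientGroup.mk' P).subgroupMap V) := (injective_iff_map_eq_one _).2 fun v e => by
    have h1 := pw v ((QuotientGroup.eq_one_iff _).1 (congrArg Subtype.val e))
    rw [pow_succ, pow_mul, sq, (h v).1 v.2, one_pow, one_mul] at h1
    exact Subtype.ext h1
  let e := MulEquiv.ofBijective _ ⟨inj, (QuotientGroup.mk' P).subgroupMap_surjective V⟩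
  refine ⟨fun y => ⟨?_, fun hy => ?_⟩, fun φ => ?_, (Nat.card_congr e.toEquiv).symm⟩
  · rintro ⟨x, hx, rfl⟩
    rw [← map_mul, (h x).1 hx, map_one]
  · obtain ⟨x, rfl⟩ := QuotientGroup.mk'_surjective P y
    refine ⟨x ^ (2 * k + 1), (h _).2 ?_, ?_⟩
    · rw [← (Commute.refl x).mul_pow]
      exact pw _ ((QuotientGroup.eq_one_iff _).1 hy)
    · rw [map_pow, pow_succ, pow_mul, sq, hy, one_pow, one_mul]
  · obtain ⟨g, hg⟩ := hf (e.trans (φ.trans e.symm))
    refine ⟨QuotientGroup.mk' P g, fun w => ?_⟩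
    obtain ⟨v, rfl⟩ := e.surjective w
    have h1 := congrArg (QuotientGroup.mk' P) (hg v)
    rw [map_mul, map_mul, map_inv] at h1
    refine h1.trans ?_
    exact congrArg Subtype.val (e.apply_symm_apply (φ (e v)))

end TX

theorem tS : TS.{u} := by
  intro H _ _ V N n h hc hp ht
  classical
  letI : MulAction N {x : V // x ≠ 1} :=
    { smul := fun g x => ⟨⟨g * x.1 * (g : H)⁻¹, TX.conj_mem h _ x.1.2⟩, fun e =>
        x.2 (Subtype.ext (conj_eq_one_iff.1 (congrArg Subtype.val e)))⟩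
      one_smul := fun x => Subtype.ext (Subtype.ext (by
        change (1 : H) * x.1 * 1⁻¹ = _
        group))
      mul_smul := fun a b x => Subtype.ext (Subtype.ext (by
        change (a * b : H) * x.1 * (a * b : H)⁻¹ = a * (b * x.1 * (b : H)⁻¹) * (a : H)⁻¹
        group)) }
  have hΩ : Nat.card {x : V // x ≠ 1} = 2 ^ n - 1 := by
    have := Fintype.ofFinite V
    rw [← hc, Nat.card_eq_fintype_card, Nat.card_eq_fintype_card, Fintype.card_subtype_compl, Fintype.card_subtype_eq]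
  obtain ⟨σ, hσ⟩ := TX.cyc (N := N) (hΩ ▸ hp) fun x y => by
    obtain ⟨g, hg, e⟩ := ht _ x.1.2 _ y.1.2 (fun e => x.2 (Subtype.ext e)) fun e => y.2 (Subtype.ext e)
    exact ⟨⟨g, hg⟩, Subtype.ext (Subtype.ext e)⟩
  refine ⟨σ, σ.2, fun x hx y hy x1 y1 => ?_⟩
  obtain ⟨i, e⟩ := hσ ⟨⟨x, hx⟩, fun e => x1 (congrArg Subtype.val e)⟩ ⟨⟨y, hy⟩, fun e => y1 (congrArg Subtype.val e)⟩
  exact ⟨i, congrArg (fun z => (z.1 : H)) e⟩

theorem n3red : N3red.{u} := by
  intro hT H
  induction hn : Nat.card H using Nat.strong_induction_on generalizing H with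
  | _ n ih =>
  intro _ _ V h hf hc
  have := TX.normal h
  let C := centralizer (V : Set H)
  refine hT H V h hf hc ?_
  by_contra h2
  obtain ⟨r, hr, hd, r2⟩ : ∃ r : ℕ, r.Prime ∧ r ∣ Nat.card C ∧ r ≠ 2 := by
    by_contra h3
    push Not at h3
    exact h2 (IsPGroup.of_card (Nat.eq_prime_pow_of_unique_prime_dvd Nat.card_pos.ne' fun a b => h3 _ a b))
  have := Fact.mk hr
  obtain ⟨P⟩ : Nonempty (Sylow r C) := inferInstance
  have fr := P.normalizer_sup_eq_top
  set Q := (P : Subgroup C).map C.subtype with hQ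
  have cQ : Nat.card Q = Nat.card P := card_map_of_injective C.subtype_injective
  by_cases hN : normalizer (Q : Set H) = ⊤
  · have := normalizer_eq_top_iff.1 hN
    obtain ⟨k, hk⟩ := IsPGroup.iff_card.1 P.isPGroup'
    obtain ⟨h1, h3, h4⟩ := TX.quot h hf Q (by rw [cQ, hk]; exact (hr.odd_of_ne_two r2).pow)
    refine ih _ ?_ _ rfl _ h1 h3 (h4.trans hc)
    rw [← hn, card_eq_card_quotient_mul_card_subgroup Q]
    refine lt_mul_of_one_lt_right Nat.card_pos ?_
    rw [cQ]
    exact hr.one_lt.trans_le (Nat.le_of_dvd Nat.card_pos (P.dvd_card_of_dvd_card hd))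
  · have hV : V ≤ normalizer (Q : Set H) := fun v hv =>
      centralizer_le_normalizer _ fun x hx => (map_subtype_le _ hx v hv).symm
    refine ih _ ?_ _ rfl (V.subgroupOf (normalizer (Q : Set H)))
      (fun x => (h x).trans (Subtype.ext_iff (a1 := x * x) (a2 := 1)).symm)
      (TX.full_sub hf hV fun g => mem_sup_of_normal_right.1 (fr ▸ mem_top g))
      ((Nat.card_congr (subgroupOfEquivOfLe hV).toEquiv).trans hc)
    rw [← hn, ← (normalizer (Q : Set H)).card_mul_index]
    exact lt_mul_of_one_lt_right Nat.card_pos (one_lt_index_of_ne_top hN)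

end CL.Pyr
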